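import Cfsg.Agent.Lib.C7S.D
import Cfsg.Agent.Lib.Max.C7UL
import Cfsg.Agent.Lib.Max.TQ

/-!
# Tensor powers of a symplectic plane: maximality
-/

namespace Cfsg.Lib.Forms.C7S

open Module TensorProduct Ten Qd LinearMap Form TF C7

section
variable {F U W V : Type*} [Field F] [AddCommGroup U] [Module F U] [AddCommGroup W] [Module F W] [AddCommGroup V]
  [Module F V] {X : Subgroup (V ≃ₗ[F] V)} {T : Type*} [Fintype T] [DecidableEq T]
  {ω : Form (altKind F) W} {ad : End F W →ₗ[F] End F W} {π : (T → End F W) →* End F V}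
  {ρ : T → End F W →ₐ[F] End F V} {K : Kind (RingHom.id F)} {D : Form K V} {τ : (T → W) → V} {κ : F}
  (p : Pw π ρ ω D τ κ)
include p

theorem pi_r1 (xs ys : T → W) (x : V) : π (fun j => r1 ω (ys j) (xs j)) x = (κ⁻¹ * D.B (τ xs) x) • τ ys :=
  congrArg (· x) (p.ext' (B := (κ⁻¹ • D.B (τ xs)).smulRight (τ ys)) fun zs => p.ext fun ws => by
    have := p.κ0
    simp [p.hτ, p.B, Finset.prod_mul_distrib]; field_simp)

theorem B_ad (had : ∀ a x y, ω.B (ad a x) y = ω.B x (a y)) (gs : T → End F W) (x y : V) :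
    D.B (π (fun l => ad (gs l)) x) y = D.B x (π gs y) :=
  congrArg (· x y) (p.ext' (A := D.B ∘ₗ π fun l => ad (gs l)) (B := D.B.compl₂ (π gs)) fun xs => p.ext' fun ys => by
    simp [p.hτ, p.B, had])

variable (h : Wr X ω ad π ρ) (hX : X ≤ D.isom)
include h hX

theorem skew {gs : T → End F W} (H : Rt X (π gs)) : π (fun l => ad (gs l)) = -π gs :=
  LinearMap.ext fun x => p.nD.ext fun y => by
    obtain ⟨g, g1, g2⟩ := H 1
    obtain ⟨k, k1, k2⟩ := H (-1)
    have a1 := (hX g1).B_map x y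
    have a2 := (hX k1).B_map x y
    simp only [g2, k2, LinearMap.smul_apply, D.B_lin, RingHom.id_apply] at a1 a2
    rw [B_ad p h.had, LinearMap.neg_apply, map_neg, LinearMap.neg_apply]
    exact mul_left_cancel₀ h.two (by linear_combination a1 - a2)

variable [FiniteDimensional F W] (hW : finrank F W = 2) (hK : K.ε = 1 → ∀ d, K.tr d = 0 → d = 0)
  (hQ : ∀ xs, D.Q (τ xs) = 0)
include hW hK hQ

theorem win_two [Nonempty T] (H : ∀ j, ZB X ω ad π Finset.univ {j}) : D.E ≤ X.subgroupOf D.isom := by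
  have := p.κ0
  have A : ∀ e f, ω.B e f = 1 → D.At (X.subgroupOf D.isom) ⊤ (τ fun _ => e) := fun e f h1 => by
    have b0 : D.B (τ fun _ => e) (τ fun _ => f) = κ := by simp [p.B, h1]
    have b1 : K.ε = (-1) ^ Fintype.card T := mul_right_cancel₀ this (by
      have := D.symm (τ fun _ => e) (τ fun _ => f)
      rw [b0, p.B] at this
      simpa [Symp.B_symm ω e f, h1, mul_comm] using this.symm)
    have k : ∀ xs j, xs j = e → ∀ c : F, ∃ g ∈ X, ∀ x,
        g x = x + c • (D.B (τ xs) x • τ (fun _ => e) - (K.ε * D.B (τ fun _ => e) x) • τ xs) := fun xs j hj c => by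
      obtain ⟨g, g1, g2⟩ := H j (fun l => r1 ω e (xs l)) (by simpa [hj] using ⟨e, rfl⟩) (by simp) (c * κ)
      refine ⟨g, g1, fun x => ?_⟩
      have := h.pi_neg (fun l => r1 ω (xs l) e) Finset.univ
      simp only [Finset.mem_univ, if_true] at this
      simp only [g2, h.ad_r1, this, LinearMap.smul_apply, LinearMap.sub_apply, pi_r1 p xs fun _ => e,
        pi_r1 p (fun _ => e) xs, b1, Finset.card_univ]
      match_scalars <;> field_simp
    have k1 : ∀ xs j, xs j = e → ∀ c : F, c • τ xs ∈ zSet (X.subgroupOf D.isom) _ (hQ fun _ => e) := fun xs j hj c => by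
      obtain ⟨g, g1, g2⟩ := k xs j hj c
      refine ⟨0, ⟨hQ _, by
        rw [map_smul, p.B, Finset.prod_eq_zero (Finset.mem_univ j) (by simp [hj, Symp.B_self])]; simp, by
        simp [D.Q_smul_of_Q (hQ xs)]⟩, ?_⟩
      convert (show (⟨g, hX g1⟩ : D.isom) ∈ X.subgroupOf D.isom from g1) using 1
      refine isom_ext fun x => ?_
      simp only [eich_apply, g2, D.B_lin, RingHom.id_apply]
      module
    let S : Submodule F V :=
      { carrier := {z | ∀ c : F, c • z ∈ zSet (X.subgroupOf D.isom) _ (hQ fun _ => e)}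
        zero_mem' := fun c => by simp
        add_mem' := fun {a b} ha hb c => smul_add c a b ▸ add_mem (ha c) (hb c)
        smul_mem' := fun d z hz c => smul_smul c d z ▸ hz _ }
    have k2 : ∀ B : Finset T, ∀ xs, (∀ l ∉ B, xs l = f) → τ xs ∈ S ⊔ F ∙ τ fun _ => f := fun B => by
      induction B using Finset.induction_on with
      | empty => exact fun xs hx => Submodule.mem_sup_right (by
          rw [show xs = fun _ => f from funext fun l => hx l (by simp)]; exact Submodule.mem_span_singleton_self _)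
      | insert l B hl ih =>
        intro xs hx
        obtain ⟨L, hL⟩ := p.exists_lin l xs
        rw [← Function.update_eq_self l xs, ← hL, eq_comb hW h1 (xs l), map_add, map_smul, map_smul, hL, hL]
        refine add_mem (Submodule.smul_mem _ _ (Submodule.mem_sup_left (k1 _ l (by simp))))
          (Submodule.smul_mem _ _ (ih _ fun i hi => ?_))
        by_cases h2 : i = l
        · simp [h2]
        · simpa [h2] using hx i (by simp [h2, hi])
    refine at_of_zSet (he := hQ _) (fun z hz d hd => ?_) fun z _ hz => ?_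
    · obtain rfl : z = 0 := hz
      rcases mul_self_eq_one_iff.1 K.ε_mul with h2 | h2
      · obtain rfl := hK h2 d (by simpa using hd.tr_d)
        rw [eich_zero]; exact one_mem _
      obtain ⟨g, g1, g2⟩ := k (fun _ => e) (Classical.arbitrary T) rfl (d / 2)
      convert (show (⟨g, hX g1⟩ : D.isom) ∈ X.subgroupOf D.isom from g1) using 1
      refine isom_ext fun x => ?_
      have := h.two
      simp only [eich_apply, g2, h2, map_zero, LinearMap.zero_apply]
      match_scalars <;> field_simp <;> ring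
    obtain ⟨a, ha, b, hb, rfl⟩ := Submodule.mem_sup.1 ((p.span _ fun xs => k2 Finset.univ xs (by simp)).ge
      (Submodule.mem_top (x := z)))
    obtain ⟨c, rfl⟩ := Submodule.mem_span_singleton.1 hb
    have a1 := ha 1
    rw [one_smul] at a1
    simpa [show c = 0 by simpa [perp_of_mem_zSet a1, b0, this] using hz] using a1
  obtain ⟨e, f, -, -, h1, h2⟩ := h.exists_hyp
  exact At.E_le p.nD (A e f h1) (A f (-e) (by simp [h2])) (hQ _) (hQ _) (by simp [p.B, h1, this])

variable [FiniteDimensional F V] {Φ : T → U ⊗[F] W ≃ₗ[F] V} (hΦ : ∀ j a x, Φ j (a.lTensor U x) = ρ j a (Φ j x))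
  (hsc : ∀ z : End F V, (∀ j a, z * ρ j a = ρ j a * z) → ∃ c : F, z = c • 1) (h3 : Nat.card F ≠ 3)
include hΦ hsc h3

theorem normalizes_two (hn : ¬ D.E ≤ X.subgroupOf D.isom) {g : V ≃ₗ[F] V} (hg : g ∈ X) (i : T) :
    ∃ j, ∀ a, ∃ b, cj g (ρ i a) = ρ j b := by
  have : Nonempty T := ⟨i⟩
  refine h.normalizes hW hΦ hsc h3 (fun j e he z z1 z2 => ?_) hg i
  rcases eq_or_ne z 0 with rfl | z0
  · exact ⟨0, by simp⟩
  have k : ∀ l ≠ j, ∀ u, ∀ y : End F V, (∀ a, y * ρ j a = ρ j a * y) → Rt X (ρ j (r1 ω e e) * y) →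
      Rt X (ρ j (r1 ω e e) * y * ρ l (r1 ω u u) - ρ l (r1 ω u u) * (ρ j (r1 ω e e) * y)) ∧
        Rt X (ρ l (r1 ω u u) * (ρ j (r1 ω e e) * y) * ρ l (r1 ω u u)) := fun l hl u y y1 y2 =>
    Rt.rule h.two y2 (h.rt_n l u) (by
      linear_combination (norm := noncomm_ring) ρ j (r1 ω e e) * y1 (r1 ω e e) * y + (h.q_n j e).sq * y * y)
      (h.q_n l u).sq (by
        linear_combination (norm := noncomm_ring) ρ j (r1 ω e e) * y * h.rho_comm hl (r1 ω u u) (r1 ω e e) * y +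
          ρ j (r1 ω e e) * y1 (r1 ω e e) * ρ l (r1 ω u u) * y + (h.q_n j e).sq * y * ρ l (r1 ω u u) * y)
  obtain ⟨gs, c, c0, a1, a2, ⟨a3, -⟩, a4⟩ := h.red hΦ hsc
    (S := {y | Rt X y ∧ ∃ z, (∀ a, z * ρ j a = ρ j a * z) ∧ y = ρ j (r1 ω e e) * z}) (j := j)
    (by
      rintro l hl u _ ⟨y2, y, y1, rfl⟩
      exact ⟨(k l hl u y y1 y2).2, ρ l (r1 ω u u) * y * ρ l (r1 ω u u), fun a => by
        linear_combination (norm := noncomm_ring) ρ l (r1 ω u u) * y * h.rho_comm hl (r1 ω u u) a +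
          ρ l (r1 ω u u) * y1 a * ρ l (r1 ω u u) + h.rho_comm hl (r1 ω u u) a * y * ρ l (r1 ω u u), by
        linear_combination (norm := noncomm_ring) h.rho_comm hl (r1 ω u u) (r1 ω e e) * y * ρ l (r1 ω u u)⟩)
    (by
      rintro l hl u _ ⟨y2, y, y1, rfl⟩
      exact ⟨(k l hl u y y1 y2).1, y * ρ l (r1 ω u u) - ρ l (r1 ω u u) * y, fun a => by
        linear_combination (norm := noncomm_ring) y * h.rho_comm hl (r1 ω u u) a + y1 a * ρ l (r1 ω u u) -
          ρ l (r1 ω u u) * y1 a - h.rho_comm hl (r1 ω u u) a * y, by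
        linear_combination (norm := noncomm_ring) -h.rho_comm hl (r1 ω u u) (r1 ω e e) * y⟩) z0 z1 ⟨z2, z, z1, rfl⟩
  by_cases H : ∀ l ≠ j, gs l = 1
  · exact ⟨c, by simp [a4 H]⟩
  push Not at H
  obtain ⟨l, hl, h1⟩ := H
  exact (hn (win_two p h hX hW hK hQ (h.initial (fun _ H _ => skew p h hX H) (a3.of_smul c0) (fun l => by
    by_cases hl : l = j
    · exact Or.inr (Or.inl ⟨e, he, hl ▸ a1⟩)
    · exact a2 l hl) he a1 hl h1))).elim

end

theorem sq_three {R : Type*} [Ring R] {N M P : R} (n0 : N * N = 0) (m0 : M * M = 0) (h : N * M + M * N = -P)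
    (h1 : P * N = N) (h2 : P * M = M) (h3 : N * P = N) (h4 : M * P = M) (h5 : P * P = P) :
    (1 + N) * (1 + M) * (1 + N) * ((1 + N) * (1 + M) * (1 + N)) = 1 - 2 * P := by
  have : (1 + N) * (1 + M) * (1 + N) = 1 + N + M - P := by
    linear_combination (norm := noncomm_ring) h + n0 + h * N - M * n0 - h1
  rw [this]
  linear_combination (norm := noncomm_ring) n0 + m0 + h - h1 - h2 - h3 - h4 + h5

theorem inv_mem_E {F V : Type*} [Field F] [AddCommGroup V] [Module F V] {K : Kind (RingHom.id F)} {D : Form K V}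
    (hI : ∀ g : V ≃ₗ[F] V, (∀ x y, D.B (g x) (g y) = D.B x y) → g ∈ D.isom)
    (hU : ∀ k : D.isom, (k.1.toLinearMap - 1) ^ 3 = 0 → k ∈ D.E) (h2 : (2 : F) ≠ 0) {g : V ≃ₗ[F] V} {s n m : End F V}
    (hs : s = g) (s2 : s * s = 1) (s4 : ∀ x y, D.B (s x) y = D.B x (s y)) (c : n * m + m * n = -1)
    (H : ∀ a, a = n ∨ a = m → s * a = a * s ∧ a * a = 0 ∧ ∀ x y, D.B (a x) y = -D.B x (a y)) :
    g ∈ D.E.map D.isom.subtype := by
  obtain ⟨P, hP⟩ : ∃ P : End F _, P = (2 : F)⁻¹ • (1 - s) := ⟨_, rfl⟩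
  have p1 : 2 * P = 1 - s := by rw [hP, two_mul, ← two_smul F, smul_smul, mul_inv_cancel₀ h2, one_smul]
  have p2 : P * P = P := by
    conv_lhs => rw [hP, smul_mul_smul_comm, show (1 - s) * (1 - s) = (2 : F) • (1 - s) by
      rw [two_smul]; linear_combination (norm := noncomm_ring) s2]
    rw [smul_smul, mul_assoc, inv_mul_cancel₀ h2, mul_one, hP]
  have p3 : ∀ a, a = n ∨ a = m → P * a = a * P := fun a ha => by simp [hP, sub_mul, mul_sub, (H a ha).1]
  have p4 : ∀ x y, D.B (P x) y = D.B x (P y) := fun x y => by simp [hP, s4]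
  have q : ∀ x y, x = n ∨ x = m → P * x * (P * y) = P * (x * y) := fun x y h => by
    linear_combination (norm := noncomm_ring) -P * p3 x h * y + p2 * x * y
  have n0 : ∀ a, a = n ∨ a = m → P * a * (P * a) = 0 := fun a ha => by rw [q _ _ ha, (H a ha).2.1, mul_zero]
  have k : ∀ a, a = n ∨ a = m → ∃ g ∈ D.E.map D.isom.subtype, g.toLinearMap = 1 + P * a := fun a ha => by
    have a1 : ∀ x y, D.B ((P * a) x) y = -D.B x ((P * a) y) := fun x y => by
      rw [End.mul_apply, p4, p3 a ha, (H a ha).2.2, End.mul_apply]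
    have a2 : (1 + P * a) * (1 - P * a) = 1 := by linear_combination (norm := noncomm_ring) -n0 a ha
    have a3 : (1 - P * a) * (1 + P * a) = 1 := by linear_combination (norm := noncomm_ring) -n0 a ha
    let g : V ≃ₗ[F] V := .ofLinearMap (1 + P * a) (1 - P * a) a2 a3
    refine ⟨g, ⟨⟨g, hI g fun x y => ?_⟩, hU _ ?_, rfl⟩, rfl⟩
    · have := congrArg (· y) (n0 a ha)
      simp only [End.mul_apply (P * _), LinearMap.zero_apply] at this
      simp [g, -End.mul_apply, a1, this]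
    · simp [g, pow_succ, n0 a ha]
  obtain ⟨a, a1, a2⟩ := k n (Or.inl rfl)
  obtain ⟨b, b1, b2⟩ := k m (Or.inr rfl)
  convert mul_mem (mul_mem (mul_mem a1 b1) a1) (mul_mem (mul_mem a1 b1) a1) using 1
  refine LinearEquiv.toLinearMap_injective ?_
  simp only [LinearEquiv.coe_toLinearMap_mul, a2, b2, ← hs]
  rw [sq_three (n0 n (Or.inl rfl)) (n0 m (Or.inr rfl)) (by rw [q _ _ (Or.inl rfl), q _ _ (Or.inr rfl), ← mul_add, c, mul_neg_one])
    (by rw [← mul_assoc, p2]) (by rw [← mul_assoc, p2]) (by rw [mul_assoc, ← p3 _ (Or.inl rfl), ← mul_assoc, p2])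
    (by rw [mul_assoc, ← p3 _ (Or.inr rfl), ← mul_assoc, p2]) p2, p1, sub_sub_cancel]

open Matrix Asch Cfsg.Geo

variable {F : Type*} [Field F] {m t : ℕ} {ω : Form (altKind F) (Fin m → F)} {K : Kind (RingHom.id F)}
  {D : Form K ((Fin t → Fin m) → F)} {κ : F} (p : Pw (piL F m t) rhoL ω D tau κ)
  (hI : ∀ g : ((Fin t → Fin m) → F) ≃ₗ[F] (Fin t → Fin m) → F, (∀ x y, D.B (g x) (g y) = D.B x y) → g ∈ D.isom)
  (hU : ∀ k : D.isom, (k.1.toLinearMap - 1) ^ 3 = 0 → k ∈ D.E)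
include p hI hU

theorem base_mem (j : Fin t) (b : ω.isom) : ∃ g ∈ D.E.map D.isom.subtype ⊓ WR F m t, ∀ x, g x = rhoL j b.1 x :=
  root_of (fun u z d hd => by
    obtain ⟨g, g1, g2⟩ := p.exists_slot j (ω.eich u z d hd)
    refine ⟨g, ⟨⟨⟨g, hI g g2⟩, hU _ ?_, rfl⟩, mem_WR_of_slot g1⟩, g1⟩
    rw [show g.toLinearMap = _ from LinearMap.ext g1, ← map_one (rhoL j), ← map_sub, ← map_pow, ← map_zero (rhoL j)]
    exact congrArg _ (LinearMap.ext fun x => by simp [pow_succ, eich_apply, hd.B_ee, hd.B_ez, hd.B_ze]))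
    b ((Symp.E_eq_top p.nω).ge trivial)

omit hI hU in
theorem B_fp (s : Equiv.Perm (Fin t)) (x y) : D.B (fp F m s x) (fp F m s y) = D.B x y :=
  p.B_map (g := fp F m s) (fun xs ys => by
    simp [fp_tau, p.B, Equiv.prod_comp s.symm fun i => ω.B (xs i) (ys i)]) x y

theorem swap_mem (hm : m = 2) (ht : 3 ≤ t) (h2 : (2 : F) ≠ 0) (i j : Fin t) :
    fp F m (Equiv.swap i j) ∈ D.E.map D.isom.subtype := by
  obtain ⟨l, -, hl⟩ := Finset.exists_mem_notMem_of_card_lt_card (s := {i, j}) (t := Finset.univ)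
    (Finset.card_le_two.trans_lt (by simp; omega))
  obtain ⟨l1, l2⟩ : l ≠ i ∧ l ≠ j := by simpa using hl
  obtain ⟨s, hs⟩ : ∃ s : End F _, s = (fp F m (Equiv.swap i j)).toLinearMap := ⟨_, rfl⟩
  have s1 : ∀ xs, s (tau xs) = tau (xs ∘ Equiv.swap i j) := fun xs => by simp [hs, fp_tau]
  have s2 : s * s = 1 := p.ext' fun xs => by simp [s1, Function.comp_def]
  have s3 : ∀ a, s * rhoL l a = rhoL l a * s := fun a => p.ext' fun xs => by
    simp only [End.mul_apply, p.rho, s1]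
    congr 1; funext k
    by_cases hk : k = l
    · simp [hk, Equiv.swap_apply_of_ne_of_ne l1 l2]
    · simp [hk, show Equiv.swap i j k ≠ l from fun h => hk (by
        rw [← Equiv.swap_apply_of_ne_of_ne l1 l2, ← h, Equiv.swap_apply_self])]
  have := nontrivial_of_finrank_pos (R := F) (M := Fin m → F) (by simp [hm])
  obtain ⟨e, he⟩ := exists_ne (0 : Fin m → F)
  obtain ⟨f, hf⟩ := exists_one p.nω he
  have k : ∀ u, s * rhoL l (r1 ω u u) = rhoL l (r1 ω u u) * s ∧ rhoL l (r1 ω u u) * rhoL l (r1 ω u u) = 0 ∧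
      ∀ x y, D.B (rhoL l (r1 ω u u) x) y = -D.B x (rhoL l (r1 ω u u) y) := fun u =>
    ⟨s3 _, by rw [← map_mul, r1_sq, map_zero], fun x y => (p.adj l u u x y).trans (neg_one_mul _)⟩
  refine inv_mem_E hI hU h2 hs s2 (fun x y => ?_) (n := rhoL l (r1 ω e e)) (m := rhoL l (r1 ω f f)) ?_ (by
    rintro _ (rfl | rfl) <;> exact k _)
  · rw [← B_fp p (Equiv.swap i j)]
    exact congrArg₂ (D.B · ·) (by rw [hs] at s2; rw [hs]; exact LinearMap.congr_fun s2 x) (by rw [hs]; rfl)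
  · rw [← map_mul, ← map_mul, ← map_add, anti (by simp [hm]) hf, map_neg, map_one]

theorem core_two (hm : m = 2) (ht : 3 ≤ t) (h2 : (2 : F) ≠ 0) (h3 : Nat.card F ≠ 3)
    (hK : K.ε = 1 → ∀ d, K.tr d = 0 → d = 0) (hQ : ∀ xs, D.Q (tau xs) = 0) : ∀ X ≤ D.E.map D.isom.subtype,
      D.E.map D.isom.subtype ⊓ WR F m t ≤ X → ¬ X ≤ WR F m t → D.E.map D.isom.subtype ≤ X := by
  refine fun X x1 x2 x3 => by_contra fun hno => x3 fun g hg => ?_
  obtain ⟨l, hl, Φ, hΦ⟩ := exists_phi F (m := m) (t := t) (by omega) (by omega)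
  obtain ⟨ad, had⟩ := exists_ad p.nω
  have : NeZero m := ⟨by omega⟩
  refine mem_WR_of_norm (by omega) (by omega) (normalizes_two p (ad := ad) ⟨p.nω, h2, inferInstance, inferInstance, had,
    rhoL_eq, fun j b => let ⟨g, g1, g2⟩ := base_mem p hI hU j b; ⟨g, x2 g1, g2⟩, fun i j =>
      ⟨_, x2 ⟨swap_mem p hI hU hm ht h2 i j, fp_mem _⟩, fun gs => ?_⟩⟩ (x1.trans (Subgroup.map_subtype_le _)) (by simp [hm])
    hK hQ hΦ hsc_rhoL h3 (fun H => hno (Subgroup.map_le_iff_le_comap.2 H)) hg)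
  change _ = toLin' _
  rw [piL, MonoidHom.coe_mk, OneHom.coe_mk, fp, cjg, cj_fperm_pure]
  rfl

omit p hI hU

theorem core_two_alt {D : Form (altKind F) ((Fin t → Fin m) → F)} (p : Pw (piL F m t) rhoL ω D tau κ) (hm : m = 2)
    (ht : 3 ≤ t) (h2 : (2 : F) ≠ 0) (h3 : Nat.card F ≠ 3) : ∀ X ≤ D.E.map D.isom.subtype,
      D.E.map D.isom.subtype ⊓ WR F m t ≤ X → ¬ X ≤ WR F m t → D.E.map D.isom.subtype ≤ X :=
  core_two p (fun _ h => alt_isIsometry h) (fun _ _ => (Symp.E_eq_top p.nD).ge trivial) hm ht h2 h3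
    (fun (h : (-1 : F) = 1) => (h2 (by linear_combination -h)).elim) fun _ => alt_Q _ _

theorem core_two_quad [Finite F] {D : Form (quadKind F) ((Fin t → Fin m) → F)} (p : Pw (piL F m t) rhoL ω D tau κ)
    (hm : m = 2) (ht : 3 ≤ t) (h2 : (2 : F) ≠ 0) (h3 : Nat.card F ≠ 3) : ∀ X ≤ D.E.map D.isom.subtype,
      D.E.map D.isom.subtype ⊓ WR F m t ≤ X → ¬ X ≤ WR F m t → D.E.map D.isom.subtype ≤ X :=
  core_two p (fun _ h => ⟨h, fun x => mul_left_cancel₀ h2 (by rw [← quad_B_self, ← quad_B_self, h])⟩)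
    (mem_E_of_cube p.nD h2 (by simpa [hm] using (show 4 ≤ 2 ^ 3 by norm_num).trans (Nat.pow_le_pow_right two_pos ht)))
    hm ht h2 h3 (fun _ _ h => h) fun xs => mul_left_cancel₀ h2 (by
      rw [← quad_B_self, p.B, Finset.prod_eq_zero (Finset.mem_univ ⟨0, by omega⟩) (Symp.B_self _ _)]; simp)

end Cfsg.Lib.Forms.C7S
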