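import Cfsg.Agent.Lib.Max.C7D
import Cfsg.Agent.Lib.Max.TP

/-!
# Tensor powers of a symplectic space: root calculus
-/

namespace Cfsg.Lib.Forms.C7S

open Module TensorProduct Ten Qd LinearMap Form TF C7

variable {F W V : Type*} [Field F] [AddCommGroup W] [Module F W] [AddCommGroup V] [Module F V]
  {X : Subgroup (V ≃ₗ[F] V)}

variable (X) in
/-- A full root group lies in `X`. -/
def Rt (y : End F V) : Prop := ∀ c : F, HasU X (c • y)

theorem Rt.smul {y : End F V} (h : Rt X y) (c : F) : Rt X (c • y) := fun d => smul_smul d c y ▸ h _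

theorem Rt.of_smul {y : End F V} {c : F} (h : Rt X (c • y)) (hc : c ≠ 0) : Rt X y := by
  simpa [smul_smul, hc] using h.smul c⁻¹

theorem Rt.neg {y : End F V} (h : Rt X y) : Rt X (-y) := by simpa using h.smul (-1)

theorem rt_zero : Rt X 0 := fun c => by simpa using hasU_zero

theorem Rt.add {a b : End F V} (h : Rt X a) (h' : Rt X b) (h0 : a * b = 0) : Rt X (a + b) := fun c => by
  rw [smul_add]
  exact (h c).add (h' c) fun x => by simpa using Or.inr (congrArg (· x) h0)

theorem Rt.sub {a b : End F V} (h : Rt X a) (h' : Rt X b) (h0 : a * b = 0) : Rt X (a - b) := by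
  rw [sub_eq_add_neg]; exact h.add h'.neg (by simp [h0])

theorem Rt.conj {y : End F V} (h : Rt X y) {g} (hg : g ∈ X) : Rt X (cj g y) := fun c =>
  ((h c).conj hg).congr fun x => by simp

theorem Rt.rule (h2 : (2 : F) ≠ 0) {a b : End F V} (ha : Rt X a) (hb : Rt X b) (a0 : a * a = 0) (b0 : b * b = 0)
    (h : a * b * a = 0) : Rt X (a * b - b * a) ∧ Rt X (b * a * b) := by
  have k : ∀ {b : End F V}, Rt X b → b * b = 0 → Rt X ((1 + b) * a * (1 - b)) := fun hb b0 c => by
    simpa using hasU_cj (ha c) (by simpa using hb 1) b0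
  have p := k hb b0
  have m := k hb.neg (by simpa using b0)
  have h1 : (1 + -b) * a * (1 - -b) * ((1 + b) * a * (1 - b)) = 0 := by
    linear_combination (norm := noncomm_ring) (1 - b) * a0 * (1 - b) + 2 * (1 - b) * h * (1 - b) +
      (1 - b) * a * b0 * a * (1 - b)
  have h3 : (1 + b) * a * (1 - b) * ((1 + -b) * a * (1 - -b)) = 0 := by
    linear_combination (norm := noncomm_ring) (1 + b) * a0 * (1 + b) - 2 * (1 + b) * h * (1 + b) +
      (1 + b) * a * b0 * a * (1 + b)
  refine ⟨Rt.of_smul ?_ h2, Rt.of_smul ?_ h2⟩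
  · convert m.sub p h1 using 1
    rw [two_smul]; noncomm_ring
  · convert (ha.add ha a0).sub (p.add m h3) (by
      linear_combination (norm := noncomm_ring) 4 * a0 - 4 * h * b) using 1
    rw [two_smul]; noncomm_ring

section
variable {ω : Form (altKind F) W}

theorem r1_mul (a b c d : W) : (r1 ω a b * r1 ω c d : End F W) = ω.B b c • r1 ω a d := by
  ext; simp [smul_smul, mul_comm]

theorem r1_add_left (a a' b : W) : r1 ω (a + a') b = r1 ω a b + r1 ω a' b := by ext; simp
theorem r1_add_right (a b b' : W) : r1 ω a (b + b') = r1 ω a b + r1 ω a b' := by ext; simp [add_smul]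
theorem r1_smul_left (c : F) (a b : W) : r1 ω (c • a) b = c • r1 ω a b := by ext; simp [smul_smul, mul_comm]
theorem r1_smul_right (c : F) (a b : W) : r1 ω a (c • b) = c • r1 ω a b := by ext; simp [smul_smul]
theorem r1_neg_left (a b : W) : r1 ω (-a) b = -r1 ω a b := by ext; simp
theorem r1_neg_right (a b : W) : r1 ω a (-b) = -r1 ω a b := by ext; simp
@[simp] theorem r1_zero_left (b : W) : r1 ω 0 b = 0 := by ext; simp
@[simp] theorem r1_zero_right (b : W) : r1 ω b 0 = 0 := by ext; simp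

theorem r1_sq (e : W) : (r1 ω e e * r1 ω e e : End F W) = 0 := by rw [r1_mul, Symp.B_self, zero_smul]

theorem r1_ne_zero (hω : ω.Nondeg) {a b : W} (ha : a ≠ 0) (hb : b ≠ 0) : r1 ω a b ≠ 0 := fun h => by
  obtain ⟨y, hy⟩ := hω.exists_ne_zero hb
  simpa [ha, hy] using congrArg (· y) h

variable [FiniteDimensional F W] (hω : ω.Nondeg)
include hω

theorem exists_one {a : W} (ha : a ≠ 0) : ∃ b, ω.B a b = 1 := (Symp.exists_isHyp' hω ha).imp fun _ h => h.B_ef

theorem top_of_r1 {S : Submodule F (End F W)} (h : ∀ a b, r1 ω a b ∈ S) : S = ⊤ := eq_top_iff.2 fun x _ => by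
  classical
  let b := Module.finBasis F W
  rw [show x = ∑ i, (b.coord i).smulRight (x (b i)) from b.ext fun j => by
    simp [Finsupp.single_apply, Finset.sum_ite_eq]]
  refine S.sum_mem fun i _ => ?_
  obtain ⟨z, hz⟩ := hω.exists_rep (b.coord i)
  convert h (x (b i)) z using 1
  exact LinearMap.ext fun y => by simp [hz]

theorem top_of_opp {S : Submodule F (End F W)} (h : ∀ a b, ω.B a b = 1 → r1 ω a b ∈ S) : S = ⊤ := by
  have k : ∀ a b, ω.B a b ≠ 0 → r1 ω a b ∈ S := fun a b h1 => by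
    simpa [r1_smul_right, smul_smul, h1] using S.smul_mem (ω.B a b) (h a ((ω.B a b)⁻¹ • b) (by simp [h1]))
  refine top_of_r1 hω fun a b => ?_
  by_cases h1 : ω.B a b = 0
  swap
  · exact k a b h1
  rcases eq_or_ne a 0 with rfl | ha
  · simp
  obtain ⟨c, hc⟩ := exists_one hω ha
  simpa [r1_add_right] using S.sub_mem (h a (b + c) (by simp [h1, hc])) (h a c hc)

theorem top_of_conj {S : Submodule F (End F W)} (hS : ∀ b : ω.isom, ∀ a ∈ S, cj b.1 a ∈ S) {a b : W}
    (h1 : ω.B a b ≠ 0) (h : r1 ω a b ∈ S) : S = ⊤ := top_of_opp hω fun a' b' h2 => by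
  obtain ⟨g, g1, g2⟩ := Symp.exists_map_hyp hω (e := a) (f := (ω.B a b)⁻¹ • b) (by simp [h1]) h2
  rw [← g1, ← g2, ← cj_r1]
  exact hS g _ (r1_smul_right (ω := ω) _ a b ▸ S.smul_mem (ω.B a b)⁻¹ h)

theorem end_ind {S : Submodule F (End F W)} (h1 : ∀ x ∈ S, ∀ y ∈ S, x * y ∈ S) (h : ∀ a, r1 ω a a ∈ S) : S = ⊤ :=
  top_of_opp hω fun a b h2 => by simpa [r1_mul, h2] using h1 _ (h a) _ (h b)

theorem exists_pair (hW : 3 ≤ finrank F W) {e : W} (he : e ≠ 0) : ∃ p q, ω.B e p = 0 ∧ ω.B e q = 0 ∧ ω.B p q = 1 := by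
  obtain ⟨f, hf⟩ := Symp.exists_isHyp' hω he
  obtain ⟨p, p1, p2⟩ := exists_ne_zero_of_finrank_pos (U := ω.hp e f) (by have := hf.finrank_hp; omega)
  obtain ⟨q, q1, q2⟩ := hf.exists_B_ne_zero hω p1 p2
  exact ⟨(ω.B q p)⁻¹ • q, p, by simp [(ω.mem_hp.1 q1).1], (ω.mem_hp.1 p1).1, by simp [q2]⟩

theorem exists_ad : ∃ ad : End F W →ₗ[F] End F W, ∀ a x y, ω.B (ad a x) y = ω.B x (a y) := by
  choose f hf using fun (a : End F W) x => hω.exists_rep (ω.B x ∘ₗ a)
  refine ⟨{ toFun := fun a => { toFun := f a, map_add' := fun x y => hω.ext fun z => by simp [hf]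
                                map_smul' := fun c x => hω.ext fun z => by simp [hf] }
            map_add' := fun a b => LinearMap.ext fun x => hω.ext fun z => by simp [hf]
            map_smul' := fun c a => LinearMap.ext fun x => hω.ext fun z => by simp [hf] }, fun a x y => hf a x y⟩

omit hω in
theorem cancel' {ρ : End F W →ₐ[F] End F V} {z : End F V} (hz : ∀ a, z * ρ a = ρ a * z) {a : End F W} (ha : a ≠ 0)
    (h : ρ a * z = 0) : z = 0 := by
  classical
  obtain ⟨w, hw⟩ : ∃ w, a w ≠ 0 := by by_contra! H; exact ha (LinearMap.ext H)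
  obtain ⟨ψ, h1⟩ := exists_dual_one (F := F) hw
  let b := Module.finBasis F W
  rw [← one_mul z, ← map_one ρ, show (1 : End F W) = ∑ i, (b.coord i).smulRight (b i) from b.ext fun j => by
    simp [Finsupp.single_apply, Finset.sum_ite_eq], map_sum, Finset.sum_mul]
  refine Finset.sum_eq_zero fun i _ => ?_
  rw [show (b.coord i).smulRight (b i) = ψ.smulRight (b i) * a * (b.coord i).smulRight w by ext; simp [h1], map_mul,
    map_mul, mul_assoc, ← hz, mul_assoc, ← mul_assoc _ z, h]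
  simp

end

variable {T : Type*} [Fintype T] [DecidableEq T]

variable (X) in
/-- An overgroup of the wreath product. -/
structure Wr (ω : Form (altKind F) W) (ad : End F W →ₗ[F] End F W) (π : (T → End F W) →* End F V)
    (ρ : T → End F W →ₐ[F] End F V) : Prop where
  nω : ω.Nondeg
  two : (2 : F) ≠ 0
  nt : Nontrivial V
  ntW : Nontrivial W
  had : ∀ a x y, ω.B (ad a x) y = ω.B x (a y)
  hρ : ∀ j a, ρ j a = π (Pi.mulSingle j a)
  base : ∀ j (b : ω.isom), ∃ g ∈ X, ∀ x, g x = ρ j (b.1 : W →ₗ[F] W) x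
  perm : ∀ i j, ∃ s ∈ X, ∀ gs, cj s (π gs) = π (gs ∘ Equiv.swap i j)

variable {ω : Form (altKind F) W} {ad : End F W →ₗ[F] End F W} {π : (T → End F W) →* End F V}
  {ρ : T → End F W →ₐ[F] End F V}

variable (X ad π) in
/-- The skew part of a pure tensor is a root of `X`. -/
def Pk (gs : T → End F W) : Prop := Rt X (π gs - π fun i => ad (gs i))

variable (X ω ad π) in
/-- All skew tensors supported on `C`, of type `e e*` on `B`. -/
def ZB (C B : Finset T) : Prop :=
  ∀ hs : T → End F W, (∀ l ∈ B, ∃ e, hs l = r1 ω e e) → (∀ l ∉ C, hs l = 1) → Pk X ad π hs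

namespace Wr

variable (h : Wr X ω ad π ρ)
include h

omit [Fintype T] in
theorem ad_mul (a b : End F W) : ad (a * b) = ad b * ad a :=
  LinearMap.ext fun x => h.nω.ext fun y => by simp [h.had]

omit [Fintype T] in
theorem ad_one : ad 1 = 1 := LinearMap.ext fun x => h.nω.ext fun y => by simp [h.had]

omit [Fintype T] in
theorem ad_ad (a : End F W) : ad (ad a) = a := LinearMap.ext fun x => h.nω.ext fun y => by
  rw [h.had, Symp.B_symm ω (ad a y), h.had, ← Symp.B_symm]

omit [Fintype T] in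
theorem ad_r1 (a b : W) : ad (r1 ω a b) = -r1 ω b a := LinearMap.ext fun x => h.nω.ext fun y => by
  simp [h.had, Symp.B_symm ω x a, mul_comm]

omit [Fintype T] in
theorem ad_cj (b : ω.isom) (a : End F W) : ad (cj b.1 a) = cj b.1 (ad a) :=
  LinearMap.ext fun x => h.nω.ext fun y => by
    rw [h.had, cj_apply, cj_apply, ← lin_apply_inv b.1 x, B_isom, ← lin_apply_inv b.1 y, B_isom]
    simp [h.had, lin_inv_apply]

omit [Fintype T] in
theorem van {gs hs : T → End F W} (H : ∃ l, gs l * hs l = 0) : π gs * π hs = 0 := by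
  obtain ⟨l, hl⟩ := H
  rw [← map_mul]; exact pi_zero h.hρ (j := l) hl

omit [Fintype T] in
theorem exists_cj (j : T) (b : ω.isom) : ∃ g ∈ X, (∀ y, cj g y = ρ j (b.1 : W →ₗ[F] W) * y * ρ j (b.1⁻¹ : W ≃ₗ[F] W)) ∧
    ∀ gs, cj g (π gs) = π (Function.update gs j (cj b.1 (gs j))) := by
  obtain ⟨g, g1, g2⟩ := h.base j b
  have g3 : ∀ x, g⁻¹ x = ρ j (b.1⁻¹ : W ≃ₗ[F] W) x := fun x => g.injective (by
    rw [lin_apply_inv, g2, ← End.mul_apply, ← map_mul, show (b.1 : W →ₗ[F] W) * (b.1⁻¹ : W ≃ₗ[F] W) = 1 from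
      LinearMap.ext (lin_apply_inv b.1), map_one]; rfl)
  have g4 : ∀ y, cj g y = ρ j (b.1 : W →ₗ[F] W) * y * ρ j (b.1⁻¹ : W ≃ₗ[F] W) := fun y =>
    LinearMap.ext fun x => by simp only [cj_apply, g2, g3, End.mul_apply]
  refine ⟨g, g1, g4, fun gs => ?_⟩
  rw [g4, h.hρ, h.hρ, ← map_mul, ← map_mul]
  congr 1
  funext i
  by_cases hi : i = j
  · subst hi; simp; rfl
  · simp [hi]

omit [Fintype T] in
theorem rt_n (j : T) (e : W) : Rt X (ρ j (r1 ω e e)) := fun c => by
  obtain ⟨g, g1, g2⟩ := h.base j (Symp.tv ω e c)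
  refine ⟨g, g1, fun x => ?_⟩
  rw [g2, show ((Symp.tv ω e c).1 : W →ₗ[F] W) = 1 + c • r1 ω e e from LinearMap.ext fun y => by
    simp [Symp.tv_apply, smul_smul]]
  simp

omit [Fintype T] in
theorem pk_conj {gs : T → End F W} (H : Pk X ad π gs) (j : T) (b : ω.isom) :
    Pk X ad π (Function.update gs j (cj b.1 (gs j))) := by
  obtain ⟨g, g1, -, g3⟩ := h.exists_cj j b
  unfold Pk
  convert H.conj g1 using 1
  rw [cj_sub, g3, g3, ← h.ad_cj]
  congr 2
  funext i
  by_cases hi : i = j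
  · subst hi; simp
  · simp [hi]

omit [Fintype T] in
theorem kk {gs hs : T → End F W} {i : T} {e : W} (h1 : gs i = r1 ω e e) (h2 : hs i = r1 ω e e) :
    (π gs - π fun i => ad (gs i)) * (π hs - π fun i => ad (hs i)) = 0 := by
  rw [sub_mul, mul_sub, mul_sub, h.van ⟨i, _⟩, h.van ⟨i, _⟩, h.van ⟨i, _⟩, h.van ⟨i, _⟩] <;>
    simp [h1, h2, h.ad_r1, r1_sq]

omit [Fintype T] in
theorem k_update (gs : T → End F W) (l : T) (a : End F W) :
    (π (Function.update gs l a) - π fun i => ad (Function.update gs l a i)) = ρ l a * π (Function.update gs l 1) -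
      ρ l (ad a) * π (Function.update (fun i => ad (gs i)) l 1) := by
  rw [← pi_update h.hρ, ← pi_update h.hρ]
  congr 2
  funext i
  by_cases hi : i = l
  · subst hi; simp
  · simp [hi]

omit [Fintype T] in
theorem exists_sub {gs : T → End F W} {i l : T} {e : W} (hl : i ≠ l) (h1 : gs i = r1 ω e e) :
    ∃ S : Submodule F (End F W), ∀ a, a ∈ S ↔ Pk X ad π (Function.update gs l a) :=
  ⟨{ carrier := {a | Pk X ad π (Function.update gs l a)}
     zero_mem' := by simpa [Pk, h.k_update] using rt_zero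
     add_mem' := fun {a b} ha hb => by
      convert Rt.add ha hb (h.kk (i := i) (e := e) (by simp [hl, h1]) (by simp [hl, h1])) using 1
      simp only [Set.mem_ofPred_eq, Pk, h.k_update, map_add, add_mul]
      congr! 1; abel
     smul_mem' := fun c a ha => by
      convert Rt.smul ha c using 1
      simp only [Set.mem_ofPred_eq, Pk, h.k_update, map_smul, smul_mul_assoc, smul_sub] }, fun _ => Iff.rfl⟩

omit [Fintype T] in
theorem pk_mul {gs hs : T → End F W} (hg : Pk X ad π gs) (hh : Pk X ad π hs) (bg : ∃ i e, gs i = r1 ω e e)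
    (bh : ∃ i e, hs i = r1 ω e e) (v1 : ∃ l, ad (gs l) * hs l = 0) (v2 : ∃ l, gs l * ad (hs l) = 0)
    (v3 : ∃ l, ad (gs l) * ad (hs l) = 0) : Pk X ad π (gs * hs) := by
  obtain ⟨i, e, h1⟩ := bg
  obtain ⟨i', e', h1'⟩ := bh
  have w1 : (π fun i => ad (hs i)) * π gs = 0 := h.van (v1.imp fun l hl => by
    simpa [h.ad_mul, h.ad_ad] using congrArg ad hl)
  have w2 : π hs * (π fun i => ad (gs i)) = 0 := h.van (v2.imp fun l hl => by
    simpa [h.ad_mul, h.ad_ad] using congrArg ad hl)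
  have w3 : π hs * π gs = 0 := h.van (v3.imp fun l hl => by simpa [h.ad_mul, h.ad_ad] using congrArg ad hl)
  have e1 : (π gs - π fun i => ad (gs i)) * (π hs - π fun i => ad (hs i)) = π gs * π hs := by
    rw [sub_mul, mul_sub, mul_sub, h.van v1, h.van v2, h.van v3]; simp
  unfold Pk
  convert (Rt.rule h.two hg hh (h.kk h1 h1) (h.kk h1' h1') (by
    rw [e1, mul_assoc, mul_sub, w2, w3]; simp)).1 using 1
  rw [e1, sub_mul, mul_sub, mul_sub, w1, w2, w3, ← map_mul, ← map_mul]
  simp only [sub_self, zero_sub, neg_neg]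
  congr 2
  funext l
  simp [h.ad_mul]

omit [Fintype T] in
theorem zb_swap {C B : Finset T} (H : ZB X ω ad π C B) (i j : T) :
    ZB X ω ad π (C.image (Equiv.swap i j)) (B.image (Equiv.swap i j)) := fun hs h1 h2 => by
  obtain ⟨s, s1, s2⟩ := h.perm i j
  unfold Pk
  convert (H (hs ∘ Equiv.swap i j) (fun l hl => h1 _ (Finset.mem_image_of_mem _ hl)) fun l hl =>
    h2 _ (by simpa using hl)).conj s1 using 1
  rw [cj_sub, s2, s2]
  congr 2 <;> funext l <;> simp

variable [FiniteDimensional F W]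

theorem spread {C B : Finset T} {i : T} (hi : i ∈ B) (hB : B ⊆ C) {gs : T → End F W}
    (h1 : ∀ l ∈ B, ∃ e ≠ 0, gs l = r1 ω e e) (h2 : ∀ l ∈ C, l ∉ B → ∃ a b, ω.B a b ≠ 0 ∧ gs l = r1 ω a b)
    (h3 : ∀ l ∉ C, gs l = 1) (H : Pk X ad π gs) : ZB X ω ad π C B := fun hs a1 a2 => by
  suffices ∀ D : Finset T, Pk X ad π (D.piecewise hs gs) by simpa using this Finset.univ
  intro D
  induction D using Finset.induction_on with
  | empty => simpa using H
  | insert l D hl ih =>
    rw [Finset.piecewise_insert]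
    have b1 : D.piecewise hs gs l = gs l := Finset.piecewise_eq_of_notMem _ _ _ hl
    by_cases c1 : l ∈ B
    · obtain ⟨e, e0, e1⟩ := h1 l c1
      obtain ⟨e', e2⟩ := a1 l c1
      rcases eq_or_ne e' 0 with rfl | e3
      · simpa [Pk, h.k_update, e2] using rt_zero
      obtain ⟨b, rfl⟩ := Symp.exists_map h.nω e0 e3
      simpa [b1, e1, e2, cj_r1] using h.pk_conj ih l b
    by_cases c2 : l ∈ C
    swap
    · rwa [a2 l c2, ← h3 l c2, ← b1, Function.update_eq_self]
    obtain ⟨e, he⟩ : ∃ e, D.piecewise hs gs i = r1 ω e e := by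
      by_cases c3 : i ∈ D
      · rw [Finset.piecewise_eq_of_mem _ _ _ c3]; exact a1 i hi
      · rw [Finset.piecewise_eq_of_notMem _ _ _ c3]; exact (h1 i hi).imp fun _ h => h.2
    obtain ⟨S, hS⟩ := h.exists_sub (l := l) (by rintro rfl; exact c1 hi) he
    obtain ⟨a, b, d1, d2⟩ := h2 l c2 c1
    exact (hS _).1 ((top_of_conj h.nω (fun b a ha => (hS _).2 (by simpa using h.pk_conj ((hS _).1 ha) l b)) d1
      ((hS _).2 (by rwa [← d2, ← b1, Function.update_eq_self]))).ge Submodule.mem_top)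

end Wr

end Cfsg.Lib.Forms.C7S
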