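import Cfsg.Agent.Lib.C7S.A

/-!
# Tensor powers of a symplectic space: merging of factors
-/

namespace Cfsg.Lib.Forms.C7S

open Module TensorProduct Ten Qd LinearMap Form TF C7

variable {F W V : Type*} [Field F] [AddCommGroup W] [Module F W] [AddCommGroup V] [Module F V]
  {X : Subgroup (V ≃ₗ[F] V)} {T : Type*} [Fintype T] [DecidableEq T]
  {ω : Form (altKind F) W} {ad : End F W →ₗ[F] End F W} {π : (T → End F W) →* End F V}
  {ρ : T → End F W →ₐ[F] End F V}

namespace Wr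

variable (h : Wr X ω ad π ρ)
include h

omit [Fintype T] in
theorem pi_neg (gs : T → End F W) (C : Finset T) :
    π (fun l => if l ∈ C then -gs l else gs l) = (-1 : F) ^ C.card • π gs := by
  induction C using Finset.induction_on with
  | empty => simp
  | insert l C hl ih =>
    rw [show (fun k => if k ∈ insert l C then -gs k else gs k) =
        Function.update (fun k => if k ∈ C then -gs k else gs k) l (-gs l) from funext fun k => by
          by_cases hk : k = l <;> simp [hk], pi_update h.hρ, map_neg, neg_mul, ← pi_update h.hρ,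
      show Function.update (fun k => if k ∈ C then -gs k else gs k) l (gs l) = fun k => if k ∈ C then -gs k else gs k
        from funext fun k => by by_cases hk : k = l <;> simp [hk, hl], ih, Finset.card_insert_of_notMem hl, pow_succ]
    simp

omit [Fintype T] in
theorem pi_ad {gs : T → End F W} {C : Finset T} (h1 : ∀ l ∈ C, ∃ e, gs l = r1 ω e e) (h2 : ∀ l ∉ C, gs l = 1) :
    π (fun l => ad (gs l)) = (-1 : F) ^ C.card • π gs := by
  rw [← h.pi_neg]
  congr 1
  funext l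
  split_ifs with hl
  · obtain ⟨e, he⟩ := h1 l hl
    rw [he, h.ad_r1]
  · rw [h2 l hl, h.ad_one]

variable [FiniteDimensional F W]

theorem pi_ne_zero {gs : T → End F W} (H : ∀ l, gs l ≠ 0) : π gs ≠ 0 := by
  suffices ∀ D : Finset T, π (D.piecewise gs 1) ≠ 0 by simpa using this Finset.univ
  intro D
  have := h.nt
  induction D using Finset.induction_on with
  | empty => simp
  | insert l D hl ih =>
    have b1 : D.piecewise gs 1 l = 1 := Finset.piecewise_eq_of_notMem _ _ _ hl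
    rw [Finset.piecewise_insert, pi_update h.hρ, ← b1, Function.update_eq_self]
    exact fun h0 => ih (cancel' (comm_pi h.hρ b1) (H l) h0)

omit [Fintype T] in
theorem exists_hyp : ∃ e f : W, e ≠ 0 ∧ f ≠ 0 ∧ ω.B e f = 1 ∧ ω.B f e = -1 := by
  have := h.ntW
  obtain ⟨e, he⟩ := exists_ne (0 : W)
  obtain ⟨f, hf⟩ := exists_one h.nω he
  exact ⟨e, f, he, by rintro rfl; simp at hf, hf, by rw [Symp.B_symm, hf]⟩

theorem imp {C B : Finset T} (H : ZB X ω ad π C B) {i i₀ : T} (hi : i ∈ B) (hB : B ⊆ C) (h0 : i₀ ∈ C) (h1 : i₀ ∉ B)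
    (hc : (∃ i₁ ∈ C, i₁ ∉ B ∧ i₁ ≠ i₀) ∨ 3 ≤ finrank F W) : ZB X ω ad π C {i₀} := by
  obtain ⟨e, f, e0, -, e1, e2⟩ := h.exists_hyp
  obtain ⟨i₁, p, q, a1, a2, a3, a4, a5⟩ : ∃ i₁ p q, ω.B p q = 1 ∧ ω.B e q = 0 ∧ i₁ ∈ C ∧ i₁ ∉ B ∧
      (i₁ = i₀ → ω.B p e = 0) := by
    rcases hc with ⟨i₁, b1, b2, b3⟩ | hc
    · exact ⟨i₁, -f, e, by simp [e2], Symp.B_self _ _, b1, b2, fun h => (b3 h).elim⟩
    · obtain ⟨p, q, b1, b2, b3⟩ := exists_pair h.nω hc e0
      exact ⟨i₀, p, q, b3, b2, h0, h1, fun _ => ω.eq_zero_symm b1⟩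
  refine h.spread (Finset.mem_singleton_self i₀) (by simpa) ?_ ?_ ?_ (h.pk_mul
    (H (fun l => if l ∈ B then r1 ω e e else if l = i₀ then r1 ω e p else if l ∈ C then r1 ω e f else 1)
      (fun l hl => ⟨e, by simp [hl]⟩) fun l hl => ?_)
    (H (fun l => if l ∈ B then r1 ω f f else if l = i₀ then r1 ω q e else if l = i₁ then r1 ω (-e) f else 1)
      (fun l hl => ⟨f, by simp [hl]⟩) fun l hl => ?_) ⟨i, e, by simp [hi]⟩ ⟨i, f, by simp [hi]⟩
    ⟨i₀, by simp [h1, h.ad_r1, r1_mul, a2]⟩ ?_ ⟨i₀, by simp [h1, h.ad_r1, r1_mul, Symp.B_self]⟩)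
  · exact fun l hl => ⟨e, e0, by simp [Finset.mem_singleton.1 hl, h1, r1_mul, a1]⟩
  · refine fun l hl h2 => ⟨e, f, by simp [e1], ?_⟩
    have h3 : l ≠ i₀ := by simpa using h2
    by_cases h4 : l ∈ B
    · simp [h4, r1_mul, e1]
    by_cases h5 : l = i₁
    · subst h5; simp [h4, h3, hl, r1_mul, e2]
    · simp [h4, h3, hl, h5]
  · intro l hl
    simp [hl, mt (@hB l) hl, show l ≠ i₀ by rintro rfl; exact hl h0, show l ≠ i₁ by rintro rfl; exact hl a3]
  · simp [hl, mt (@hB l) hl, show l ≠ i₀ by rintro rfl; exact hl h0]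
  · simp [mt (@hB l) hl, show l ≠ i₀ by rintro rfl; exact hl h0, show l ≠ i₁ by rintro rfl; exact hl a3]
  · by_cases h2 : i₁ = i₀
    · exact ⟨i₀, by simp [h1, h.ad_r1, r1_mul, a5 h2]⟩
    · exact ⟨i₁, by simp [a3, a4, h2, h.ad_r1, r1_mul, Symp.B_self]⟩

theorem imp' {C : Finset T} (H : ZB X ω ad π C C) (hp : (-1 : F) ^ C.card = -1) {i₀ i₁ : T} (h0 : i₀ ∈ C) (h1 : i₁ ∈ C)
    (h2 : i₁ ≠ i₀) : ZB X ω ad π C {i₀} := by
  obtain ⟨e, f, e0, -, e1, e2⟩ := h.exists_hyp
  obtain ⟨ns, hn⟩ : ∃ ns : W → T → End F W, ∀ e l, ns e l = if l ∈ C then r1 ω e e else 1 := ⟨_, fun _ _ => rfl⟩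
  have n1 : ∀ e, ∀ l ∈ C, ∃ u, ns e l = r1 ω u u := fun e l hl => ⟨e, by simp [hn, hl]⟩
  have n2 : ∀ e, ∀ l ∉ C, ns e l = 1 := fun e l hl => by simp [hn, hl]
  have n3 : π (fun l => ad (ns e l)) = -π (ns e) := by rw [h.pi_ad (n1 e) (n2 e), hp, neg_one_smul]
  have n4 : Rt X (π (ns e)) := Rt.of_smul (by
    simpa only [Pk, n3, sub_neg_eq_add, ← two_smul F] using H _ (n1 e) (n2 e)) h.two
  have n5 : π (Function.update (fun l => ad (ns f l)) i₀ 1) = π (Function.update (ns f) i₀ 1) := by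
    have := h.pi_ad (gs := Function.update (ns f) i₀ 1) (C := C.erase i₀) (fun l hl => by
      simpa [(Finset.mem_erase.1 hl).1] using n1 f l (Finset.mem_erase.1 hl).2) fun l hl => by
      by_cases h3 : l = i₀
      · simp [h3]
      · simpa [h3] using n2 f l (by simpa [h3] using hl)
    rw [← Finset.card_erase_add_one h0, pow_succ, mul_neg_one, neg_inj] at hp
    rw [hp, one_smul] at this
    rw [← this]
    congr 1
    funext l
    by_cases h3 : l = i₀ <;> simp [h3, h.ad_one]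
  obtain ⟨S, hS⟩ := h.exists_sub (gs := ns f) (e := f) h2 (by simp [hn, h1])
  have s1 : ∀ u, r1 ω u u ∈ S := fun u => (hS _).2 (H _ (fun l hl => by
    by_cases h3 : l = i₀
    · exact ⟨u, by simp [h3]⟩
    · simpa [h3] using n1 f l hl) fun l hl => by simpa [show l ≠ i₀ by rintro rfl; exact hl h0] using n2 f l hl)
  have s2 : Pk X ad π (Function.update (ns f) i₀ (r1 ω f e)) := Rt.of_smul (by
    have := (hS _).1 (S.sub_mem (S.sub_mem (s1 (e + f)) (s1 e)) (s1 f))
    rw [Pk, h.k_update, n5] at this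
    rw [h.k_update, n5]
    convert this using 1
    simp only [r1_add_left, r1_add_right, map_add, map_sub, h.ad_r1, map_neg, two_smul, sub_mul, add_mul, neg_mul]
    abel) h.two
  have s3 : π (ns e) * π (fun l => ad (Function.update (ns f) i₀ (r1 ω f e) l)) = 0 :=
    h.van ⟨i₀, by simp [hn, h0, h.ad_r1, r1_mul, Symp.B_self]⟩
  have s4 : π (Function.update (ns f) i₀ (r1 ω f e)) * π (ns e) = 0 :=
    h.van ⟨i₀, by simp [hn, h0, r1_mul, Symp.B_self]⟩
  refine h.spread (gs := ns e * Function.update (ns f) i₀ (r1 ω f e)) (Finset.mem_singleton_self i₀) (by simpa)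
    (fun l hl => ⟨e, e0, by simp [Finset.mem_singleton.1 hl, hn, h0, r1_mul, e1]⟩)
    (fun l hl h3 => ⟨e, f, by simp [e1], by simp [show l ≠ i₀ by simpa using h3, hn, hl, r1_mul, e1]⟩)
    (fun l hl => by simp [show l ≠ i₀ by rintro rfl; exact hl h0, hn, hl]) ?_
  unfold Pk
  convert (Rt.rule h.two n4 s2 (h.van ⟨i₀, by simp [hn, h0, r1_sq]⟩) (h.kk (i := i₁) (e := f) (by simp [h2, hn, h1])
    (by simp [h2, hn, h1])) (by rw [mul_sub, s3, sub_zero, mul_assoc, s4, mul_zero])).1 using 1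
  rw [mul_sub, s3, sub_mul, s4, map_mul, show (fun l => ad ((ns e * Function.update (ns f) i₀ (r1 ω f e)) l)) =
    (fun l => ad (Function.update (ns f) i₀ (r1 ω f e) l)) * fun l => ad (ns e l) from funext fun l => by
      simp [h.ad_mul], map_mul, n3]
  simp

omit [Fintype T] [FiniteDimensional F W] in
theorem zb_all {C : Finset T} {i j : T} (H : ZB X ω ad π C {i}) (hi : i ∈ C) (hj : j ∈ C) : ZB X ω ad π C {j} := by
  convert h.zb_swap H i j
  · ext l
    rw [Finset.mem_image]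
    refine ⟨fun hl => ⟨Equiv.swap i j l, ?_, by simp⟩, ?_⟩
    · rw [Equiv.swap_apply_def]; split_ifs <;> assumption
    · rintro ⟨k, hk, rfl⟩
      rw [Equiv.swap_apply_def]; split_ifs <;> assumption
  · simp

theorem grow {C : Finset T} (H : ∀ i ∈ C, ZB X ω ad π C {i}) (hc : 3 ≤ C.card ∨ 2 ≤ C.card ∧ 3 ≤ finrank F W) {l : T}
    (hl : l ∉ C) : ZB X ω ad π (insert l C) {l} := by
  obtain ⟨e, f, e0, -, e1, e2⟩ := h.exists_hyp
  have m : ∀ i ∈ C, i ≠ l := by rintro i hi rfl; exact hl hi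
  by_cases h3 : 3 ≤ C.card
  · obtain ⟨i₁, i₂, i₃, a1, a2, a3, b1, b2, b3⟩ := Finset.two_lt_card_iff.1 h3
    have s1 := Equiv.swap_apply_of_ne_of_ne b2 (m _ a1)
    have s2 := Equiv.swap_apply_of_ne_of_ne b3 (m _ a2)
    refine h.imp (B := {i₁, i₂}) (i := i₁) (h.spread (i := i₁) (by simp) (by simp [Finset.insert_subset_iff, a1, a2])
      ?_ ?_ ?_ (h.pk_mul
      (H i₂ a2 (fun k => if k = i₂ then r1 ω e e else if k = i₁ then r1 ω e (-f) else if k ∈ C then r1 ω e f else 1)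
        (fun k hk => ⟨e, by simp [Finset.mem_singleton.1 hk]⟩) fun k hk => ?_)
      (h.zb_swap (H i₁ a1) i₃ l
        (fun k => if k = i₁ then r1 ω e e else if k = i₂ then r1 ω f e else if k = l then r1 ω e f else 1)
        (fun k hk => ⟨e, by simp [show k = i₁ by simpa [s1] using hk]⟩) fun k hk => ?_) ⟨i₂, e, by simp⟩ ⟨i₁, e, by simp⟩
      ⟨i₁, by simp [b1, h.ad_r1, r1_mul, Symp.B_self]⟩ ⟨i₂, by simp [b1.symm, h.ad_r1, r1_mul, Symp.B_self]⟩
      ⟨i₁, by simp [b1, h.ad_r1, r1_mul, Symp.B_self]⟩)) (by simp) (by simp [Finset.insert_subset_iff, a1, a2])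
      (by simp) (by simp [(m _ a1).symm, (m _ a2).symm]) (Or.inl ⟨i₃, by simp [a3], by simp [b2.symm, b3.symm], m _ a3⟩)
    · intro k hk
      refine ⟨e, e0, ?_⟩
      rcases Finset.mem_insert.1 hk with rfl | hk
      · simp [b1, r1_mul, e2]
      · simp [Finset.mem_singleton.1 hk, b1.symm, r1_mul, e1]
    · intro k hk h4
      obtain ⟨h5, h6⟩ : k ≠ i₁ ∧ k ≠ i₂ := by simpa using h4
      refine ⟨e, f, by simp [e1], ?_⟩
      rcases Finset.mem_insert.1 hk with rfl | hk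
      · simp [h5, h6, hl]
      · simp [h5, h6, hk, m k hk]
    · intro k hk
      obtain ⟨h5, h6⟩ : k ≠ l ∧ k ∉ C := by simpa using hk
      simp [h5, h6, show k ≠ i₁ by rintro rfl; exact h6 a1, show k ≠ i₂ by rintro rfl; exact h6 a2]
    · simp [hk, show k ≠ i₁ by rintro rfl; exact hk a1, show k ≠ i₂ by rintro rfl; exact hk a2]
    · rw [if_neg, if_neg, if_neg] <;> rintro rfl
      · exact hk (Finset.mem_image.2 ⟨i₃, a3, by simp⟩)
      · exact hk (Finset.mem_image.2 ⟨_, a2, s2⟩)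
      · exact hk (Finset.mem_image.2 ⟨_, a1, s1⟩)
  obtain ⟨h4, hW⟩ := hc.resolve_left h3
  obtain ⟨i₁, i₂, b1, rfl⟩ := Finset.card_eq_two.1 (show C.card = 2 by omega)
  obtain ⟨p, q, p1, p2, p3⟩ := exists_pair h.nω hW e0
  have m1 := m i₁ (by simp)
  have m2 := m i₂ (by simp)
  refine h.imp' (i₁ := i₁) (h.spread (i := l) (by simp) subset_rfl ?_ (fun k h1 h2 => (h2 h1).elim) ?_ (h.pk_mul
      (H i₂ (by simp) (fun k => if k = i₂ then r1 ω e e else if k = i₁ then r1 ω e p else 1)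
        (fun k hk => ⟨e, by simp [Finset.mem_singleton.1 hk]⟩) fun k hk => ?_)
      (h.zb_swap (H i₂ (by simp)) i₂ l (fun k => if k = l then r1 ω e e else if k = i₁ then r1 ω q e else 1)
        (fun k hk => ⟨e, by simp [show k = l by simpa using hk]⟩) fun k hk => ?_) ⟨i₂, e, by simp⟩ ⟨l, e, by simp⟩
      ⟨i₁, by simp [b1, m1, h.ad_r1, r1_mul, p2]⟩ ⟨i₁, by simp [b1, m1, h.ad_r1, r1_mul, ω.eq_zero_symm p1]⟩
      ⟨i₁, by simp [b1, m1, h.ad_r1, r1_mul, Symp.B_self]⟩))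
    (by rw [Finset.card_insert_of_notMem hl, Finset.card_pair b1]; norm_num) (by simp) (by simp) m1
  · intro k hk
    refine ⟨e, e0, ?_⟩
    simp only [Finset.mem_insert, Finset.mem_singleton] at hk
    rcases hk with rfl | rfl | rfl <;> simp [b1, m1, m2, b1.symm, m1.symm, m2.symm, r1_mul, p3]
  · intro k hk
    simp only [Finset.mem_insert, Finset.mem_singleton, not_or] at hk
    simp [hk]
  · simp only [Finset.mem_insert, Finset.mem_singleton, not_or] at hk
    simp [hk]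
  · rw [if_neg, if_neg] <;> rintro rfl
    · exact hk (Finset.mem_image.2 ⟨k, by simp, Equiv.swap_apply_of_ne_of_ne b1 m1⟩)
    · exact hk (Finset.mem_image.2 ⟨i₂, by simp, by simp⟩)

theorem zb_univ {C : Finset T} {i : T} (H : ZB X ω ad π C {i}) (hi : i ∈ C)
    (hc : 3 ≤ C.card ∨ 2 ≤ C.card ∧ 3 ≤ finrank F W) (j : T) : ZB X ω ad π Finset.univ {j} := by
  suffices ∀ D : Finset T, ZB X ω ad π (D ∪ C) {i} from
    h.zb_all (Finset.union_eq_left.2 (Finset.subset_univ C) ▸ this Finset.univ) (Finset.mem_univ i) (Finset.mem_univ j)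
  intro D
  induction D using Finset.induction_on with
  | empty => simpa using H
  | insert l D _ ih =>
    rw [Finset.insert_union]
    by_cases hl : l ∈ D ∪ C
    · rwa [Finset.insert_eq_of_mem hl]
    have := Finset.card_le_card (Finset.subset_union_right (s₁ := D) (s₂ := C))
    exact h.zb_all (h.grow (fun k hk => h.zb_all ih (by simp [hi]) hk) (by omega) hl) (by simp) (by simp [hi])

end Wr

end Cfsg.Lib.Forms.C7S
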