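import Cfsg.Agent.Lib.C7S.B

/-!
# Tensor powers of a symplectic space: reduction to pure tensors
-/

namespace Cfsg.Lib.Forms.C7S

open Module TensorProduct Ten Qd LinearMap Form TF C7

variable {F U W V : Type*} [Field F] [AddCommGroup U] [Module F U] [AddCommGroup W] [Module F W] [AddCommGroup V]
  [Module F V] {X : Subgroup (V ≃ₗ[F] V)} {T : Type*} [Fintype T] [DecidableEq T]
  {ω : Form (altKind F) W} {ad : End F W →ₗ[F] End F W} {π : (T → End F W) →* End F V}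
  {ρ : T → End F W →ₐ[F] End F V}

variable (ω) in
/-- The self-adjoint operators `u ∧ w`. -/
def IsM (a : End F W) : Prop := ∃ u w, ω.B u w = 0 ∧ u ≠ 0 ∧ w ∉ (F ∙ u) ∧ a = r1 ω u w - r1 ω w u

variable (ω) in
/-- Types of tensor factors. -/
def Ty (a : End F W) : Prop := a = 1 ∨ (∃ u ≠ 0, a = r1 ω u u) ∨ IsM ω a

theorem ne_one_of_sq [Nontrivial W] {a : End F W} (h : a * a = 0) : a ≠ 1 := by rintro rfl; simp at h

theorem IsM.sq {a : End F W} (h : IsM ω a) : a * a = 0 := by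
  obtain ⟨u, w, h1, -, -, rfl⟩ := h
  simp [mul_sub, sub_mul, r1_mul, h1, ω.eq_zero_symm h1, Symp.B_self]

variable [FiniteDimensional F W]

theorem IsM.three (hω : ω.Nondeg) {a : End F W} (h : IsM ω a) : 3 ≤ finrank F W := by
  obtain ⟨u, w, h1, h2, h3, -⟩ := h
  by_contra h4
  have h6 : LinearIndependent F ![u, w] := (LinearIndependent.pair_iff' h2).2 fun c hc =>
    h3 (Submodule.mem_span_singleton.2 ⟨c, hc⟩)
  have h7 := finrank_span_eq_card h6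
  rw [Matrix.range_cons_cons_empty, Fintype.card_fin] at h7
  refine h2 (hω u fun y => ?_)
  obtain ⟨a, b, rfl⟩ := Submodule.mem_span_pair.1 ((Submodule.eq_top_of_finrank_eq (S := Submodule.span F {u, w})
    (le_antisymm (Submodule.finrank_le _) (by omega))).ge (Submodule.mem_top (x := y)))
  simp [h1, Symp.B_self]

theorem IsM.partner (hω : ω.Nondeg) {a : End F W} (h : IsM ω a) :
    ∃ b : ω.isom, ∃ u ≠ 0, a * cj b.1 a = r1 ω u u ∧ r1 ω u u * a = 0 := by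
  obtain ⟨u, w, h1, h2, h3, rfl⟩ := h
  obtain ⟨u', a1, a2⟩ := hω.exists_perp_B_eq' h3 1
  have a3 : ω.B u u' = 0 := ω.mem_perp_span_singleton.1 a1
  have a4 := ω.eq_zero_symm h1
  obtain ⟨b, hb⟩ := hω.witt_family (v := ![u, w]) (w := ![u', u]) ((LinearIndependent.pair_iff' h2).2 fun c hc =>
    h3 (Submodule.mem_span_singleton.2 ⟨c, hc⟩)) (LinearIndependent.pair_iff.2 fun s t hst => by
      have : s = 0 := by simpa [a2, a4] using congrArg (ω.B w) hst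
      simpa [this, h2] using hst) (fun i j => by
      fin_cases i <;> fin_cases j <;> simp [h1, a3, a4, ω.eq_zero_symm a3, Symp.B_self]) fun i => by simp [alt_Q]
  have b1 : b.1 u = u' := hb 0
  have b2 : b.1 w = u := hb 1
  exact ⟨b, u, h2, by simp [cj_sub, cj_r1, b1, b2, mul_sub, sub_mul, r1_mul, a2, a3, a4, Symp.B_self],
    by simp [mul_sub, r1_mul, h1, Symp.B_self]⟩

theorem exists_partner (hω : ω.Nondeg) {u : W} (hu : u ≠ 0) :
    ∃ b : ω.isom, ∃ v, ω.B u v = 1 ∧ cj b.1 (r1 ω u u) = r1 ω v v := by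
  obtain ⟨v, hv⟩ := exists_one hω hu
  obtain ⟨b, rfl⟩ := Symp.exists_map hω hu (b := v) (by rintro rfl; simp at hv)
  exact ⟨b, _, hv, cj_r1 ..⟩

namespace Wr

variable (h : Wr X ω ad π ρ)
include h

omit [Fintype T] [FiniteDimensional F W] in
theorem ad_m {a : End F W} (H : IsM ω a) : ad a = a := by
  obtain ⟨u, w, -, -, -, rfl⟩ := H
  simp [h.ad_r1, neg_add_eq_sub]

omit [Fintype T] [FiniteDimensional F W] in
theorem not_m {e : W} (he : e ≠ 0) : ¬ IsM ω (r1 ω e e) := fun H => r1_ne_zero h.nω he he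
  ((smul_eq_zero_iff_right h.two).1 (by rw [two_smul]; nth_rw 1 [← h.ad_m H]; rw [h.ad_r1, neg_add_cancel]))

omit [Fintype T] [FiniteDimensional F W] in
theorem rho_comm {i j : T} (H : i ≠ j) (a b) : ρ i a * ρ j b = ρ j b * ρ i a := by
  rw [h.hρ i]; exact comm_pi h.hρ (by simp [H.symm]) b

theorem m_ne_zero {a : End F W} (H : IsM ω a) : a ≠ 0 := by
  obtain ⟨b, u, h1, h2, -⟩ := H.partner h.nω
  rintro rfl
  exact r1_ne_zero h.nω h1 h1 (by simpa using h2.symm)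

omit [FiniteDimensional F W] in
theorem exists_cj_all (bs : T → ω.isom) : ∃ g ∈ X, (∀ gs, cj g (π gs) = π fun l => cj (bs l).1 (gs l)) ∧
    ∀ j, bs j = 1 → ∀ a x, g (ρ j a x) = ρ j a (g x) := by
  suffices ∀ D : Finset T, ∃ g ∈ X, (∀ gs, cj g (π gs) = π fun l => if l ∈ D then cj (bs l).1 (gs l) else gs l) by
    obtain ⟨g, g1, g2⟩ := this Finset.univ
    refine ⟨g, g1, by simpa using g2, fun j hj a x => ?_⟩
    have := congrArg (· (g x)) (g2 (Pi.mulSingle j a))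
    simp only [cj_apply, lin_inv_apply, Finset.mem_univ, if_true, ← h.hρ] at this
    rw [this, h.hρ]
    congr 2
    funext l
    by_cases hl : l = j
    · subst hl; ext; simp [hj]
    · ext; simp [hl, lin_apply_inv]
  intro D
  induction D using Finset.induction_on with
  | empty => exact ⟨1, X.one_mem, fun gs => by ext; simp⟩
  | insert l D hl ih =>
    obtain ⟨g, g1, g2⟩ := ih
    obtain ⟨k, k1, -, k2⟩ := h.exists_cj l (bs l)
    refine ⟨k * g, X.mul_mem k1 g1, fun gs => ?_⟩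
    rw [show cj (k * g) (π gs) = cj k (cj g (π gs)) from rfl, g2, k2]
    congr 1
    funext i
    by_cases hi : i = l <;> simp [hi, hl]

theorem initial (sk : ∀ gs, Rt X (π gs) → π gs * π gs = 0 → π (fun l => ad (gs l)) = -π gs) {gs : T → End F W}
    (H : Rt X (π gs)) (ty : ∀ l, Ty ω (gs l)) {j l : T} {e : W} (he : e ≠ 0) (hj : gs j = r1 ω e e) (hl : l ≠ j)
    (h1 : gs l ≠ 1) (i : T) : ZB X ω ad π Finset.univ {i} := by
  classical
  have := h.ntW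
  have g0 : π gs * π gs = 0 := h.van ⟨j, by rw [hj, r1_sq]⟩
  have g1 := sk gs H g0
  obtain ⟨C, hC⟩ : ∃ C : Finset T, ∀ l, l ∈ C ↔ gs l ≠ 1 := ⟨Finset.univ.filter (gs · ≠ 1), by simp⟩
  have c1 : j ∈ C := (hC j).2 (hj ▸ ne_one_of_sq (r1_sq e))
  have c2 : ∀ l ∉ C, gs l = 1 := fun l hl => by simpa [hC] using hl
  have c3 : 2 ≤ C.card := Finset.one_lt_card.2 ⟨l, (hC l).2 h1, j, c1, hl⟩
  by_cases hm : ∃ l, IsM ω (gs l)
  swap
  · have c4 : ∀ l ∈ C, ∃ u ≠ 0, gs l = r1 ω u u := fun l hl =>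
      ((ty l).resolve_left ((hC l).1 hl)).resolve_right (not_exists.1 hm l)
    have c5 : (-1 : F) ^ C.card = -1 := smul_left_injective F (h.pi_ne_zero (gs := gs) fun l => by
      by_cases hl : l ∈ C
      · obtain ⟨u, u0, u1⟩ := c4 l hl
        exact u1 ▸ r1_ne_zero h.nω u0 u0
      · simp [c2 l hl]) (by
        simp only [← h.pi_ad (fun l hl => (c4 l hl).imp fun _ h => h.2) c2, g1, neg_one_smul])
    refine h.zb_univ (h.imp' (h.spread c1 subset_rfl c4 (fun k h1 h2 => (h2 h1).elim) c2 ?_) c5 c1 ((hC l).2 h1) hl)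
      c1 (Or.inl (by_contra fun h3 => h.two ?_)) i
    · simpa only [Pk, g1, sub_neg_eq_add, ← two_smul F] using H.smul 2
    · rw [show C.card = 2 by omega] at c5
      linear_combination c5
  obtain ⟨l₀, m0⟩ := hm
  obtain ⟨B, hB⟩ : ∃ B : Finset T, ∀ l, l ∈ B ↔ IsM ω (gs l) := ⟨Finset.univ.filter fun l => IsM ω (gs l), by simp⟩
  choose bs hb using fun l => show ∃ b : ω.isom, (l ∈ B → ∃ u ≠ 0, gs l * cj b.1 (gs l) = r1 ω u u ∧ r1 ω u u * gs l = 0) ∧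
      (l ∈ C → l ∉ B → ∃ a c, ω.B a c ≠ 0 ∧ gs l * cj b.1 (gs l) = r1 ω a c) ∧ (l ∉ C → gs l * cj b.1 (gs l) = 1) by
    rcases ty l with h2 | ⟨u, u0, h2⟩ | h2
    · exact ⟨1, fun h3 => (ne_one_of_sq ((hB l).1 h3).sq h2).elim, fun h3 => ((hC l).1 h3 h2).elim, fun _ => by
        ext; simp [h2]⟩
    · obtain ⟨b, v, b1, b2⟩ := exists_partner h.nω u0
      exact ⟨b, fun h3 => (h.not_m u0 (h2 ▸ (hB l).1 h3)).elim, fun _ _ => ⟨u, v, by simp [b1], by
        simp [h2, b2, r1_mul, b1]⟩, fun h3 => (ne_one_of_sq (r1_sq u) (h2 ▸ c2 l h3)).elim⟩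
    · obtain ⟨b, hb⟩ := h2.partner h.nω
      exact ⟨b, fun _ => hb, fun _ h3 => (h3 ((hB l).2 h2)).elim, fun h3 => (ne_one_of_sq h2.sq (c2 l h3)).elim⟩
  obtain ⟨g, g2, g3, -⟩ := h.exists_cj_all bs
  have H' := g3 gs ▸ H.conj g2
  have g4 : (π fun l => cj (bs l).1 (gs l)) * (π fun l => cj (bs l).1 (gs l)) = 0 :=
    h.van ⟨j, by rw [hj, cj_r1, r1_sq]⟩
  have b0 := (hB l₀).2 m0
  have b1 : B ⊆ C := fun l hl => (hC l).2 (ne_one_of_sq ((hB l).1 hl).sq)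
  refine h.zb_univ (h.imp (h.spread (gs := gs * fun l => cj (bs l).1 (gs l)) b0 b1
    (fun l hl => ((hb l).1 hl).imp fun _ h => ⟨h.1, h.2.1⟩) (fun l => (hb l).2.1) (fun l => (hb l).2.2) ?_) b0 b1 c1
    (fun h2 => h.not_m he (hj ▸ (hB j).1 h2)) (Or.inr (m0.three h.nω))) c1 (Or.inr ⟨c3, m0.three h.nω⟩) i
  unfold Pk
  convert (Rt.rule h.two H H' g0 g4 (by
    obtain ⟨u, -, u1, u2⟩ := (hb l₀).1 b0
    rw [← map_mul]
    exact h.van ⟨l₀, by rw [Pi.mul_apply, u1, u2]⟩)).1 using 1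
  rw [map_mul, show (fun l => ad ((gs * fun l => cj (bs l).1 (gs l)) l)) =
    (fun l => ad (cj (bs l).1 (gs l))) * fun l => ad (gs l) from funext fun l => by simp [h.ad_mul], map_mul, g1,
    sk _ H' g4, neg_mul_neg]

variable {Φ : T → U ⊗[F] W ≃ₗ[F] V} (hΦ : ∀ j a x, Φ j (a.lTensor U x) = ρ j a (Φ j x))
include hΦ

omit [Fintype T] in
theorem exists_contr' (l : T) (z : End F V) {u w : W} (hu : u ≠ 0) (hw : w ≠ 0) : ∃ z' : End F V,
    (∀ a, z' * ρ l a = ρ l a * z') ∧ ρ l (r1 ω u w) * z' = ρ l (r1 ω u w) * z * ρ l (r1 ω u w) ∧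
      ∀ i, i ≠ l → (∀ a, z * ρ i a = ρ i a * z) → ∀ a, z' * ρ i a = ρ i a * z' := by
  obtain ⟨z', a1, a2⟩ := exists_contr (hΦ l) z u (ω.B w)
  refine ⟨z', a1, a2, fun i hi H a => sub_eq_zero.1 (cancel' (ρ := ρ l) (fun b => ?_) (r1_ne_zero h.nω hu hw) ?_)⟩
  · rw [sub_mul, mul_sub, mul_assoc, h.rho_comm hi, mul_assoc, a1, ← mul_assoc, a1, ← mul_assoc, ← mul_assoc,
      h.rho_comm hi, mul_assoc _ _ z']
  · change ρ l ((ω.B w).smulRight u) * _ = 0
    rw [mul_sub, ← mul_assoc, ← mul_assoc, ← h.rho_comm hi, mul_assoc (ρ i a), a2, mul_assoc _ _ (ρ i a),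
      ← h.rho_comm hi, ← mul_assoc, mul_assoc _ z, H, ← mul_assoc, ← h.rho_comm hi]
    simp [mul_assoc]

omit [Fintype T] in
theorem exists_m {l : T} {z : End F V} (h0 : ∀ u, ρ l (r1 ω u u) * z * ρ l (r1 ω u u) = 0)
    (h1 : ¬ ∀ a, z * ρ l a = ρ l a * z) : ∃ u w, ∃ z' : End F V, ω.B u w = 0 ∧ u ≠ 0 ∧ w ∉ (F ∙ u) ∧ z' ≠ 0 ∧
      (∀ a, z' * ρ l a = ρ l a * z') ∧ (∀ i, i ≠ l → (∀ a, z * ρ i a = ρ i a * z) → ∀ a, z' * ρ i a = ρ i a * z') ∧
      ρ l (r1 ω u w - r1 ω w u) * z' = -(ρ l (r1 ω u u) * z * ρ l (r1 ω w w) + ρ l (r1 ω w w) * z * ρ l (r1 ω u u)) := by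
  obtain ⟨u, φ, a1, a2⟩ := exists_sandwich (hΦ l) h1
  obtain ⟨w, hw⟩ := h.nω.exists_rep φ
  obtain rfl : ω.B w = φ := LinearMap.ext hw
  change ρ l (r1 ω u w) * z * ρ l (r1 ω u w) ≠ 0 at a2
  have u0 : u ≠ 0 := by rintro rfl; simp at a2
  have w0 : w ≠ 0 := by rintro rfl; simp at a2
  obtain ⟨z', b1, b2, b3⟩ := h.exists_contr' hΦ l z u0 w0
  have k : ∀ p a q, ρ l (r1 ω p a) * z * ρ l (r1 ω a q) = 0 := fun p a q => by
    rcases eq_or_ne a 0 with rfl | ha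
    · simp
    obtain ⟨f, hf⟩ := exists_one h.nω ha
    have := congrArg (fun y => ρ l (r1 ω p (-f)) * y * ρ l (r1 ω f q)) (h0 a)
    simp only [← mul_assoc, ← map_mul, mul_zero, zero_mul] at this
    simpa [mul_assoc, ← map_mul, r1_mul, hf, Symp.B_symm ω a f] using this
  refine ⟨u, w, z', ω.eq_zero_symm a1, u0, fun h2 => ?_, by rintro rfl; exact a2 (by simp [← b2]), b1, b3, ?_⟩
  · obtain ⟨c, rfl⟩ := Submodule.mem_span_singleton.1 h2
    simp [r1_smul_right, h0] at a2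
  have e1 := k u (u + w) w
  simp only [r1_add_left, r1_add_right, map_add, add_mul, mul_add, k, zero_add, add_zero, ← b2] at e1
  obtain ⟨f, hf⟩ := exists_one h.nω u0
  obtain ⟨f', hf'⟩ := exists_one h.nω w0
  have e2 := congrArg (fun y => ρ l (r1 ω w (-f)) * y * ρ l (r1 ω f' u)) b2
  simp only [← mul_assoc, ← map_mul] at e2
  simp only [mul_assoc, b1, ← map_mul] at e2
  simp only [← mul_assoc, ← map_mul, r1_mul, map_neg, LinearMap.neg_apply, Symp.B_symm ω u f, hf, hf', neg_neg,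
    one_smul] at e2
  rw [map_sub, sub_mul, e2]
  linear_combination (norm := noncomm_ring) e1

theorem red (hsc : ∀ z : End F V, (∀ j a, z * ρ j a = ρ j a * z) → ∃ c : F, z = c • 1) {S : Set (End F V)} {j : T}
    (s1 : ∀ l ≠ j, ∀ u, ∀ y ∈ S, ρ l (r1 ω u u) * y * ρ l (r1 ω u u) ∈ S)
    (s2 : ∀ l ≠ j, ∀ u, ∀ y ∈ S, y * ρ l (r1 ω u u) - ρ l (r1 ω u u) * y ∈ S) {a : End F W} {z : End F V} (z0 : z ≠ 0)
    (z1 : ∀ b, z * ρ j b = ρ j b * z) (z2 : ρ j a * z ∈ S) : ∃ gs, ∃ c : F, c ≠ 0 ∧ gs j = a ∧ (∀ l ≠ j, Ty ω (gs l)) ∧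
      c • π gs ∈ S ∧ ((∀ l ≠ j, gs l = 1) → z = c • 1) := by
  have := h.ntW
  suffices ∀ D : Finset T, ∃ gs z', gs j = a ∧ (∀ l ≠ j, Ty ω (gs l)) ∧ (∀ l ∉ insert j D, gs l = 1) ∧ z' ≠ 0 ∧
      (∀ l ∈ insert j D, ∀ b, z' * ρ l b = ρ l b * z') ∧ π gs * z' ∈ S ∧ ((∀ l ≠ j, gs l = 1) → z = z') by
    obtain ⟨gs, z', a1, a2, -, a4, a5, a6, a7⟩ := this Finset.univ
    obtain ⟨c, rfl⟩ := hsc z' fun l => a5 l (by simp)
    exact ⟨gs, c, left_ne_zero_of_smul a4, a1, a2, by simpa using a6, a7⟩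
  intro D
  induction D using Finset.induction_on with
  | empty => exact ⟨Pi.mulSingle j a, z, by simp, fun l hl => Or.inl (by simp [hl]), fun l hl => by
      simp [show l ≠ j by simpa using hl], z0, by simpa, h.hρ j a ▸ z2, fun _ => rfl⟩
  | insert l D _ ih =>
    obtain ⟨gs, z', a1, a2, a3, a4, a5, a6, a7⟩ := ih
    rw [Finset.insert_comm]
    by_cases h1 : ∀ b, z' * ρ l b = ρ l b * z'
    · exact ⟨gs, z', a1, a2, fun k hk => a3 k (mt Finset.mem_insert_of_mem hk), a4,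
        fun k hk => (Finset.mem_insert.1 hk).elim (fun h => h ▸ h1) (a5 k), a6, a7⟩
    have h2 : l ∉ insert j D := fun h2 => h1 (a5 l h2)
    have h3 : l ≠ j := by rintro rfl; simp at h2
    have h4 := comm_pi h.hρ (a3 l h2)
    suffices ∃ b z'', b * b = 0 ∧ Ty ω b ∧ z'' ≠ 0 ∧ (∀ b, z'' * ρ l b = ρ l b * z'') ∧
        (∀ i, i ≠ l → (∀ a, z' * ρ i a = ρ i a * z') → ∀ a, z'' * ρ i a = ρ i a * z'') ∧ π gs * (ρ l b * z'') ∈ S by
      obtain ⟨b, z'', b1, b2, b3, b4, b5, b6⟩ := this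
      refine ⟨Function.update gs l b, z'', by simp [h3.symm, a1], fun k hk => ?_, fun k hk => ?_, b3, fun k hk => ?_, ?_,
        fun H => (ne_one_of_sq b1 (by simpa using H l h3)).elim⟩
      · by_cases h5 : k = l
        · simpa [h5] using b2
        · simpa [h5] using a2 k hk
      · simpa [show k ≠ l by rintro rfl; simp at hk] using a3 k (mt Finset.mem_insert_of_mem hk)
      · by_cases h5 : k = l
        · exact h5 ▸ b4
        · exact b5 k h5 (a5 k ((Finset.mem_insert.1 hk).resolve_left h5))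
      · rwa [pi_update h.hρ, ← a3 l h2, Function.update_eq_self, ← h4, mul_assoc]
    by_cases h0 : ∀ u, ρ l (r1 ω u u) * z' * ρ l (r1 ω u u) = 0
    · obtain ⟨u, w, z'', b1, b2, b3, b4, b5, b6, b7⟩ := h.exists_m hΦ h0 h1
      refine ⟨_, z'', IsM.sq ⟨u, w, b1, b2, b3, rfl⟩, Or.inr (Or.inr ⟨u, w, b1, b2, b3, rfl⟩), b4, b5, b6, ?_⟩
      convert s2 l h3 w _ (s2 l h3 u _ a6) using 1
      have e1 : ρ l (r1 ω u u) * ρ l (r1 ω w w) = 0 := by rw [← map_mul, r1_mul, b1]; simp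
      have e2 : ρ l (r1 ω w w) * ρ l (r1 ω u u) = 0 := by rw [← map_mul, r1_mul, ω.eq_zero_symm b1]; simp
      rw [b7]
      linear_combination (norm := noncomm_ring) -π gs * z' * e1 - e2 * π gs * z' -
        h4 (r1 ω u u) * z' * ρ l (r1 ω w w) - h4 (r1 ω w w) * z' * ρ l (r1 ω u u)
    push Not at h0
    obtain ⟨u, hu⟩ := h0
    have u0 : u ≠ 0 := by rintro rfl; simp at hu
    obtain ⟨z'', b1, b2, b3⟩ := h.exists_contr' hΦ l z' u0 u0
    refine ⟨_, z'', r1_sq u, Or.inr (Or.inl ⟨u, u0, rfl⟩), by rintro rfl; exact hu (by simp [← b2]), b1, b3, ?_⟩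
    convert s1 l h3 u _ a6 using 1
    rw [b2, ← mul_assoc, ← mul_assoc, h4, mul_assoc _ _ z']

end Wr

end Cfsg.Lib.Forms.C7S
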