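import Cfsg.Agent.Lib.C7S.C
import Cfsg.Agent.Lib.Quad.Roots

/-!
# Tensor powers of a symplectic plane: quadratic elements
-/

namespace Cfsg.Lib.Forms.C7S

open Module TensorProduct Ten Qd LinearMap Form TF C7

theorem comm_of_sand {R : Type*} [Ring R] {a b y : R} (a0 : a * a = 0) (b0 : b * b = 0) (h : a * b + b * a = -1)
    (h1 : a * y * a = 0) (h2 : b * y * b = 0) (h3 : (a + b + (a * b - b * a)) * y * (a + b + (a * b - b * a)) = 0) :
    y * a = a * y ∧ y * b = b * y := by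
  have e1 : a * b * a = -a := by linear_combination (norm := noncomm_ring) h * a - b * a0
  have e2 : b * a * b = -b := by linear_combination (norm := noncomm_ring) h * b - a * b0
  have m1 : a * b * (a + b + (a * b - b * a)) = -a - a * b := by
    linear_combination (norm := noncomm_ring) e1 + a * b0 + e1 * b - a * b0 * a
  have m2 : (a + b + (a * b - b * a)) * (b * a) = -a + b * a := by
    linear_combination (norm := noncomm_ring) e1 + b0 * a + a * b0 * a - e2 * a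
  have k := congrArg (fun x => a * b * x * (b * a)) h3
  simp only [← mul_assoc, m1] at k
  rw [mul_assoc _ _ b, mul_assoc _ _ a, mul_assoc _ b a, m2] at k
  have m3 : b * a * (a + b + (a * b - b * a)) = -b + b * a := by
    linear_combination (norm := noncomm_ring) e2 + b * a0 + b * a0 * b - e2 * a
  have m4 : (a + b + (a * b - b * a)) * (a * b) = -b - a * b := by
    linear_combination (norm := noncomm_ring) e2 + a0 * b + e1 * b - b * a0 * b
  have k' := congrArg (fun x => b * a * x * (a * b)) h3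
  simp only [← mul_assoc, m3] at k'
  rw [mul_assoc _ _ a, mul_assoc _ _ b, mul_assoc _ a b, m4] at k'
  constructor
  · linear_combination (norm := noncomm_ring) h * y * a - a * y * h - b * h1 + h1 * b - k + h1 - a * h2 * a
  · linear_combination (norm := noncomm_ring) h * y * b - b * y * h - a * h2 + h2 * a + k' - h2 + b * h1 * b

variable {F U W V : Type*} [Field F] [AddCommGroup U] [Module F U] [AddCommGroup W] [Module F W] [AddCommGroup V]
  [Module F V] {X : Subgroup (V ≃ₗ[F] V)} {T : Type*} [Fintype T] [DecidableEq T]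
  {ω : Form (altKind F) W} {ad : End F W →ₗ[F] End F W} {π : (T → End F W) →* End F V}
  {ρ : T → End F W →ₐ[F] End F V}

variable (X) in
/-- The group as a group of units. -/
noncomputable def uG : Subgroup (End F V)ˣ := X.map (GeneralLinearGroup.generalLinearEquiv F V).symm.toMonoidHom

theorem q_iff {y : End F V} : Lib.Quad.Q (uG X) y ↔ y * y = 0 ∧ Rt X y :=
  ⟨fun h => ⟨h.sq, fun c => by
    obtain ⟨_, ⟨g, g1, rfl⟩, g2⟩ := h.mem c
    exact ⟨g, g1, fun x => congrArg (· x) g2⟩⟩, fun h => ⟨h.1, fun c => by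
    obtain ⟨g, g1, g2⟩ := h.2 c
    exact ⟨_, ⟨g, g1, rfl⟩, LinearMap.ext g2⟩⟩⟩

theorem two_rk_le [FiniteDimensional F V] {y : End F V} (h : y * y = 0) : 2 * Lib.Quad.rk y ≤ finrank F V := by
  have := y.finrank_range_add_finrank_ker
  have := Submodule.finrank_mono (Lib.Quad.mul_eq_zero_iff.1 h)
  unfold Lib.Quad.rk; omega

theorem le_two_rk [FiniteDimensional F V] {a b : End F V} (h : a * b + b * a = -1) : finrank F V ≤ 2 * Lib.Quad.rk a := by
  have h1 := Lib.Quad.rk_add_le (x := 1 * a * b) (y := b * a * 1)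
  have h2 := Lib.Quad.rk_mul_le (p := 1) (x := a) (q := b)
  have h3 := Lib.Quad.rk_mul_le (p := b) (x := a) (q := 1)
  rw [one_mul, mul_one, h, Lib.Quad.rk, range_neg, End.one_eq_id, range_id, finrank_top] at h1
  rw [one_mul] at h2
  rw [mul_one] at h3
  omega

variable [FiniteDimensional F W]

section
variable (hW : finrank F W = 2) {e f : W} (h1 : ω.B e f = 1)
include hW h1

theorem eq_comb (x : W) : x = -ω.B f x • e + ω.B e x • f := by
  have hef : ω.IsHyp e f := ⟨alt_Q _ _, alt_Q _ _, h1⟩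
  obtain ⟨w, hw, hx⟩ := hef.exists_comb x
  have := hef.finrank_hp
  rw [Submodule.finrank_eq_zero.1 (show finrank F (ω.hp e f) = 0 by omega), Submodule.mem_bot] at hw
  simpa [hw] using hx

theorem anti : r1 ω e e * r1 ω f f + r1 ω f f * r1 ω e e = (-1 : End F W) := by
  ext x
  conv_rhs => rw [eq_comb hW h1 x]
  simp [h1, Symp.B_symm ω e f, add_comm]

theorem end_two (hω : ω.Nondeg) {S : Submodule F (End F W)} (h : ∀ x ∈ S, ∀ y ∈ S, x * y ∈ S) (he : r1 ω e e ∈ S)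
    (hf : r1 ω f f ∈ S) : S = ⊤ := top_of_r1 hω fun a b => by
  have k1 := h _ he _ hf
  have k2 := h _ hf _ he
  rw [r1_mul, h1, one_smul] at k1
  rw [r1_mul, Symp.B_symm ω e f, h1, neg_smul, one_smul, neg_mem_iff] at k2
  rw [eq_comb hW h1 a, eq_comb hW h1 b]
  simp only [r1_add_left, r1_add_right, r1_smul_left, r1_smul_right, smul_add]
  refine add_mem (add_mem ?_ ?_) (add_mem ?_ ?_) <;> exact S.smul_mem _ (S.smul_mem _ ‹_›)

end

namespace Wr

variable (h : Wr X ω ad π ρ) (hW : finrank F W = 2)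
include h hW

omit [Fintype T] in
theorem slot_or_comm {y : End F V} (y0 : y * y = 0) {j : T}
    (H : ∀ u, ∃ c : F, ρ j (r1 ω u u) * y * ρ j (r1 ω u u) = c • ρ j (r1 ω u u)) :
    (∀ a, y * ρ j a = ρ j a * y) ∨ ∃ a, y = ρ j a := by
  obtain ⟨e, f, -, -, h1, h2⟩ := h.exists_hyp
  obtain ⟨α, h3⟩ := H e
  obtain ⟨β, h4⟩ := H f
  obtain ⟨γ, h5⟩ := H (e + f)
  obtain ⟨c, hc⟩ : ∃ c, c = -β • r1 ω e e + -α • r1 ω f f + ((γ - α - β) / 2) • (r1 ω e f + r1 ω f e) := ⟨_, rfl⟩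
  have k : ∀ u (d : F), ω.B u (c u) = d → ρ j (r1 ω u u) * y * ρ j (r1 ω u u) = d • ρ j (r1 ω u u) →
      ρ j (r1 ω u u) * (y - ρ j c) * ρ j (r1 ω u u) = 0 := fun u d a1 a2 => by
    rw [mul_sub, sub_mul, a2, ← map_mul, ← map_mul, ← map_smul, ← map_sub, ← map_zero (ρ j)]
    congr 1; ext x; simp [← a1, smul_smul, mul_comm]
  have := h.two
  have k1 := k e α (by simp [hc, h1, h2, Symp.B_self]) h3
  have k2 := k f β (by simp [hc, h1, h2, Symp.B_self]) h4
  have k3 := k (e + f) γ (by simp [hc, h1, h2, Symp.B_self]; field_simp; ring) h5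
  have s : ∀ u, ρ j (r1 ω u u) * ρ j (r1 ω u u) = 0 := fun u => by rw [← map_mul, r1_sq, map_zero]
  have a1 := congrArg (ρ j) (anti hW h1)
  rw [map_add, map_mul, map_mul, map_neg, map_one] at a1
  obtain ⟨b1, b2⟩ := comm_of_sand (s e) (s f) a1 k1 k2 (by
    convert k3 using 2 <;> [congr 1; skip] <;>
      simp [← map_mul, r1_mul, h1, h2, r1_add_left, r1_add_right] <;> abel)
  have b3 : ∀ a, (y - ρ j c) * ρ j a = ρ j a * (y - ρ j c) := fun a => (end_two hW h1 h.nω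
    (S := eqLocus (mulLeft F (y - ρ j c) ∘ₗ (ρ j).toLinearMap) (mulRight F (y - ρ j c) ∘ₗ (ρ j).toLinearMap))
    (fun x hx x' hx' => by
      simp only [mem_eqLocus, comp_apply, AlgHom.toLinearMap_apply, mulLeft_apply, mulRight_apply, map_mul] at *
      rw [← mul_assoc, hx, mul_assoc, hx', mul_assoc]) b1 b2).ge trivial
  by_cases H1 : ∀ a, c * a = a * c
  · exact Or.inl fun a => by
      have := congrArg (ρ j) (H1 a)
      rw [map_mul, map_mul] at this
      linear_combination (norm := noncomm_ring) b3 a + this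
  obtain ⟨a, ha⟩ := not_forall.1 H1
  obtain ⟨d, hd⟩ : ∃ d : F, c * c = d • 1 := ⟨((γ - α - β) / 2) ^ 2 - α * β, LinearMap.ext fun x => by
    rw [eq_comb hW h1 x]
    simp [hc, h1, h2, Symp.B_self]
    module⟩
  refine Or.inr ⟨c, sub_eq_zero.1 (cancel' b3 (sub_ne_zero.2 ha) ((smul_eq_zero_iff_right this).1 ?_))⟩
  replace hd := congrArg (ρ j) hd
  rw [map_mul, map_smul, map_one] at hd
  obtain ⟨z, rfl⟩ : ∃ z, y = z + ρ j c := ⟨y - ρ j c, by simp⟩
  simp only [add_sub_cancel_right, map_sub, map_mul] at b3 ⊢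
  have b4 : z * z + 2 * (ρ j c * z) + d • 1 = 0 := by linear_combination (norm := noncomm_ring) y0 - b3 c - hd
  have b5 := congrArg (· * ρ j a) b4
  have b6 := congrArg (ρ j a * ·) b4
  simp only [add_mul, mul_add, smul_mul_assoc, mul_smul_comm, one_mul, mul_one, zero_mul, mul_zero] at b5 b6
  rw [two_smul]
  linear_combination (norm := noncomm_ring) b5 - b6 - z * b3 a - b3 a * z - 2 * ρ j c * b3 a

omit [Fintype T] [FiniteDimensional F W] hW in
theorem q_n (j : T) (e : W) : Lib.Quad.Q (uG X) (ρ j (r1 ω e e)) :=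
  q_iff.2 ⟨by rw [← map_mul, r1_sq, map_zero], h.rt_n j e⟩

omit hW in
theorem n_ne (j : T) {e : W} (he : e ≠ 0) : ρ j (r1 ω e e) ≠ 0 := h.hρ j _ ▸ h.pi_ne_zero fun l => by
  have := h.ntW
  by_cases hl : l = j <;> simp [hl, r1_ne_zero h.nω he he]

variable [FiniteDimensional F V] {Φ : T → U ⊗[F] W ≃ₗ[F] V} (hΦ : ∀ j a x, Φ j (a.lTensor U x) = ρ j a (Φ j x))
  (hsc : ∀ z : End F V, (∀ j a, z * ρ j a = ρ j a * z) → ∃ c : F, z = c • 1) (h3 : Nat.card F ≠ 3)
  (hZ : ∀ j e, e ≠ 0 → ∀ z, (∀ a, z * ρ j a = ρ j a * z) → Rt X (ρ j (r1 ω e e) * z) →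
    ∃ c : F, ρ j (r1 ω e e) * z = c • ρ j (r1 ω e e))
include hΦ hZ

omit [Fintype T] hW [FiniteDimensional F V] in
theorem sand {j : T} {e : W} (he : e ≠ 0) {y : End F V} (H : Rt X (ρ j (r1 ω e e) * y * ρ j (r1 ω e e))) :
    ∃ c : F, ρ j (r1 ω e e) * y * ρ j (r1 ω e e) = c • ρ j (r1 ω e e) := by
  obtain ⟨z, z1, z2, -⟩ := h.exists_contr' hΦ j y he he
  exact z2 ▸ hZ j e he z z1 (z2 ▸ H)

include hsc h3

theorem qd_n (j : T) {e : W} (he : e ≠ 0) : Lib.Quad.Qd (uG X) (ρ j (r1 ω e e)) := by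
  obtain ⟨x, hx⟩ := Lib.Quad.exists_qd (h.q_n j e) (h.n_ne j he)
  obtain ⟨l, u, hu⟩ : ∃ l u, ρ l (r1 ω u u) * x * ρ l (r1 ω u u) ≠ 0 := by
    by_contra! H
    obtain ⟨c, rfl⟩ := hsc x fun l => by_contra fun H1 => by
      obtain ⟨u, w, -, a1, a2, a3, -⟩ := h.exists_m hΦ (H l) H1
      have := IsM.three h.nω ⟨u, w, a1, a2, a3, rfl⟩
      omega
    have := h.nt
    exact hx.ne (by simpa [smul_smul] using hx.q.sq)
  have u0 : u ≠ 0 := by rintro rfl; simp at hu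
  obtain ⟨y, y1⟩ : ∃ y, Lib.Quad.Qd (uG X) (ρ l (r1 ω u u) * y * ρ l (r1 ω u u)) := by
    by_cases H : x * ρ l (r1 ω u u) * x = 0
    · have := (Rt.rule h.two (q_iff.1 hx.q).2 (h.rt_n l u) hx.q.sq (h.q_n l u).sq H).2
      exact ⟨x, hx.of_rk (q_iff.2 ⟨by
        rw [mul_assoc, ← mul_assoc (ρ l _), ← mul_assoc (ρ l _), (h.q_n l u).sq]; simp, this⟩) hu Lib.Quad.rk_mul_le⟩
    · obtain ⟨v, v1, v2, v3⟩ := hx.exists_partner h.two h3 (h.q_n l u) H
      exact ⟨v, (hx.of_Es v1 v2).1.xux (h.q_n l u) v3⟩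
  obtain ⟨c, hc⟩ := h.sand hΦ hZ u0 (q_iff.1 y1.q).2
  obtain ⟨f, hf⟩ := exists_one h.nω u0
  have a1 := congrArg (ρ l) (anti hW hf)
  rw [map_add, map_mul, map_mul, map_neg, map_one] at a1
  have a2 := le_two_rk a1
  have a3 := two_rk_le (h.q_n j e).sq
  refine y1.of_rk (h.q_n j e) (h.n_ne j he) ?_
  rw [hc, Lib.Quad.rk, Lib.Quad.rk, range_smul _ _ (by rintro rfl; exact y1.ne (by simpa using hc))]
  unfold Lib.Quad.rk at a2 a3
  omega

theorem slot_of_rt {y : End F V} (y0 : y * y = 0) (hy : Rt X y) (y1 : y ≠ 0) : ∃ j a, y = ρ j a := by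
  suffices ∀ j u, ∃ c : F, ρ j (r1 ω u u) * y * ρ j (r1 ω u u) = c • ρ j (r1 ω u u) by
    by_contra! H
    obtain ⟨c, rfl⟩ := hsc y fun j => (h.slot_or_comm hW y0 (this j)).resolve_right fun ⟨a, ha⟩ => H j a ha
    have := h.nt
    exact y1 (by simpa [smul_smul] using y0)
  intro j u
  by_cases H1 : ρ j (r1 ω u u) * y * ρ j (r1 ω u u) = 0
  · exact ⟨0, by simp [H1]⟩
  have u0 : u ≠ 0 := by rintro rfl; simp at H1
  obtain ⟨v, v1, v2, v3⟩ := (h.qd_n hW hΦ hsc h3 hZ j u0).exists_partner h.two h3 (q_iff.2 ⟨y0, hy⟩) H1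
  obtain ⟨f, hf⟩ := exists_one h.nω u0
  have a1 : ρ j (r1 ω u u) * ρ j (r1 ω f f) * ρ j (r1 ω u u) = -ρ j (r1 ω u u) := by
    simp [← map_mul, r1_mul, hf, Symp.B_symm ω u f]
  have a2 := Lib.Quad.Es_l (p := ρ j (r1 ω u u) * ρ j (r1 ω f f) + 1) v1 (by rw [add_mul, a1]; simp)
  have a3 := Lib.Quad.Es_r (q := ρ j (r1 ω f f) * ρ j (r1 ω u u) + 1) v1 (by rw [mul_add, ← mul_assoc, a1]; simp)
  have a4 : ρ j (r1 ω u u) * (ρ j (r1 ω f f) * v * ρ j (r1 ω f f)) * ρ j (r1 ω u u) = v := by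
    linear_combination (norm := noncomm_ring) a2 * (ρ j (r1 ω f f) * ρ j (r1 ω u u)) - a3
  obtain ⟨c, hc⟩ := h.sand hΦ hZ u0 (a4 ▸ (q_iff.1 v1.1).2)
  obtain rfl := a4.symm.trans hc
  have c0 : c ≠ 0 := by rintro rfl; simp at v2
  refine ⟨c⁻¹, smul_right_injective _ (mul_ne_zero c0 c0) ?_⟩
  simpa [smul_smul, c0] using v3

theorem normalizes {g : V ≃ₗ[F] V} (hg : g ∈ X) (i : T) : ∃ j, ∀ a, ∃ b, cj g (ρ i a) = ρ j b := by
  obtain ⟨e, f, e0, f0, h1, h2⟩ := h.exists_hyp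
  have k : ∀ u ≠ 0, ∃ j a, cj g (ρ i (r1 ω u u)) = ρ j a := fun u hu => h.slot_of_rt hW hΦ hsc h3 hZ
    (LinearMap.ext fun x => by simpa [lin_inv_apply] using congrArg (· (g⁻¹ x)) (h.q_n i u).sq) ((h.rt_n i u).conj hg)
    fun H => h.n_ne i hu (LinearMap.ext fun x => by simpa [lin_inv_apply] using congrArg (· (g x)) H)
  obtain ⟨j, a, ha⟩ := k e e0
  obtain ⟨l, b, hb⟩ := k f f0
  have m : ∀ x y, cj g (ρ i (x * y)) = cj g (ρ i x) * cj g (ρ i y) := fun x y =>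
    LinearMap.ext fun v => by simp [lin_inv_apply]
  obtain rfl : j = l := by_contra fun H => h.n_ne i e0 (LinearMap.ext fun x => by
    have := congrArg (· * cj g (ρ i (r1 ω e e))) (h.rho_comm H a b)
    simp only [← ha, ← hb, ← m, r1_mul, h1, h2, Symp.B_self, smul_mul_assoc] at this
    simpa [lin_inv_apply] using congrArg (· (g x)) this)
  refine ⟨j, fun x => ?_⟩
  have := (end_two hW h1 h.nω (S := (range (ρ j).toLinearMap).comap
    (mulLeft F (g : End F V) ∘ₗ mulRight F (g⁻¹ : V ≃ₗ[F] V) ∘ₗ (ρ i).toLinearMap))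
    (fun x ⟨a, ha⟩ y ⟨b, hb⟩ => ⟨a * b, ((map_mul (ρ j) _ _).trans (congrArg₂ (· * ·) ha hb)).trans (m x y).symm⟩)
    ⟨a, ha.symm⟩ ⟨b, hb.symm⟩).ge (Submodule.mem_top (x := x))
  exact this.imp fun _ h => h.symm

end Wr

end Cfsg.Lib.Forms.C7S
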