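import Cfsg.Agent.Lib.C7S.E
import Cfsg.Agent.Lib.Max.TM

/-!
# The stabiliser of a tensor power decomposition is maximal in `Sp`
-/

namespace Cfsg.Lib.Forms.C7S

open Module TensorProduct Ten Form TF C7 Matrix Asch Cfsg.Geo

variable {F : Type*} [Field F] [Fintype F]

theorem sp_max_wreath {m k t : ℕ} (hm : 7 ≤ m) (hodd : Odd (Fintype.card F)) (ht : 3 ≤ t)
    (hex : ¬ (Fintype.card F = 3 ∧ k = 2)) (e : (Fin m ⊕ Fin m) ≃ (Fin t → Fin k)) (P : GL (Fin m ⊕ Fin m) F) {f₁}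
    (hf₁ : IsSymplecticForm f₁) (hT : IsTensorPowerFormStructure id (sympForm m F) f₁ e P)
    (core : 4 ≤ k → ∀ (ω : Form (altKind F) (Fin k → F)) (D : Form (altKind F) ((Fin t → Fin k) → F)) κ,
      Pw (piL F k t) rhoL ω D tau κ → ∀ X ≤ D.E.map D.isom.subtype,
        D.E.map D.isom.subtype ⊓ WR F k t ≤ X → ¬ X ≤ WR F k t → D.E.map D.isom.subtype ≤ X) :
    IsMaximalIn (spGL m F) (tensorWreathSubgroup k t e P ⊓ spGL m F) := by
  have h2 : (2 : F) ≠ 0 := two_ne_zero_of_odd hodd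
  obtain ⟨c, c0, h⟩ := tps_of (σ := RingHom.id F) (IsSymplecticForm.hm hf₁).toIsSesq hT
  obtain ⟨ω, h5, h6⟩ := exists_form_of_symp hf₁
  have nD := (iso_comap _ (vec e P)).symm.nondeg (fSymp_nondeg (F := F) m)
  have p := pw_of h6 nD c0 fun xs ys => by simp only [comap_B, LinearEquiv.coe_coe, fSymp_B, h, h5]
  have hE := eq_map_toM (mem_spGL_iff (F := F) (m := m)) (vec e P)
  rw [← Subgroup.range_subtype (Form.isom _), MonoidHom.range_eq_map, ← Symp.E_eq_top nD] at hE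
  have e1 := Fintype.card_congr e
  obtain ⟨r, hk⟩ := IsSymplecticForm.even hf₁
  simp only [Fintype.card_sum, Fintype.card_fin, Fintype.card_pi, Finset.prod_const, Finset.card_univ] at e1 hk
  have e2 : 2 ≤ k := by
    rcases Nat.eq_zero_or_pos k with rfl | h
    · rw [zero_pow (by omega)] at e1; omega
    · omega
  have := nontrivial_of_finrank_pos (R := F) (M := Fin k → F) (by simp; omega)
  obtain ⟨u, hu⟩ := exists_ne (0 : Fin k → F)
  obtain ⟨v, hv⟩ := exists_one h6 hu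
  obtain ⟨g, g1, g2⟩ := base_mem p (fun _ h => alt_isIsometry h) (fun _ _ => (Symp.E_eq_top nD).ge trivial) ⟨0, by omega⟩
    (Symp.tv ω u 1)
  refine isMaximalIn_map' hE (comap_wreath e P) (toM_injective _) (not_le_WR e2 (by omega)
    (hE ▸ cl_sp (Or.inl (by omega)) :) g1.1 g2 fun c H => ?_) ?_
  · simpa [Symp.tv_apply, hv, Symp.B_self, Symp.B_symm ω u v] using congrArg (fun f => ω.B v (f v)) H
  by_cases e3 : k = 2
  · exact core_two_alt p e3 ht h2 fun h => hex ⟨Nat.card_eq_fintype_card.symm.trans h, e3⟩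
  · exact core (by omega) _ _ _ p

end Cfsg.Lib.Forms.C7S
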